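import Mathlib

/-!
# The arithmetic of the faithful rows of a principal block with two modular characters
-/

set_option autoImplicit false

namespace Cfsg.Agent.InvertedSylow

theorem two_of_sq_sum {ι : Type*} (T : Finset ι) (g : ι → ℤ) (h : ∑ i ∈ T, g i ^ 2 = 2) :
    ∃ i ∈ T, ∃ j ∈ T, i ≠ j ∧ g i ^ 2 = 1 ∧ g j ^ 2 = 1 ∧
      ∀ k ∈ T, k ≠ i → k ≠ j → g k = 0 := by
  classical
  have h01 : ∀ i ∈ T, g i ^ 2 = 0 ∨ g i ^ 2 = 1 := by
    intro i hi
    have hle : g i ^ 2 ≤ 2 := h ▸ Finset.single_le_sum (fun k _ => sq_nonneg (g k)) hi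
    have h1 : g i ≤ 1 := by nlinarith
    have h2 : -1 ≤ g i := by nlinarith
    interval_cases g i <;> norm_num
  set S := T.filter fun i => g i ^ 2 = 1 with hS
  have hc : S.card = 2 := by
    have hs : ∑ i ∈ T, g i ^ 2 = (S.card : ℤ) := by
      rw [Finset.cast_card, Finset.sum_filter]
      refine Finset.sum_congr rfl fun i hi => ?_
      rcases h01 i hi with e | e <;> simp [e]
    rw [h] at hs
    exact_mod_cast hs.symm
  obtain ⟨i, j, hij, hSij⟩ := Finset.card_eq_two.1 hc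
  have hi : i ∈ S := by rw [hSij]; simp
  have hj : j ∈ S := by rw [hSij]; simp
  rw [hS, Finset.mem_filter] at hi hj
  refine ⟨i, hi.1, j, hj.1, hij, hi.2, hj.2, fun k hk hki hkj => ?_⟩
  rcases h01 k hk with e | e
  · exact pow_eq_zero_iff two_ne_zero |>.1 e
  · exfalso
    have : k ∈ S := Finset.mem_filter.2 ⟨hk, e⟩
    rw [hSij] at this
    simp at this
    rcases this with rfl | rfl
    · exact hki rfl
    · exact hkj rfl

/-- If the rows `(a, b)` have the norms of the rows of the trivial part and the same weighted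
cubic sum, then `d = 1` or `v = d`. -/
theorem rows_rigid {ι : Type*} (T : Finset ι) (a b f A : ι → ℤ) {p : ℕ} (hp : 2 ≤ p)
    {d v y w : ℤ} {m : ℚ} (hy : y = 1 + d) (hw : w = 1 + v) (hy0 : y ≠ 0)
    (hf : ∀ i ∈ T, f i = a i + d * b i) (hA : ∀ i ∈ T, A i = a i + v * b i)
    (hf0 : ∀ i ∈ T, f i ≠ 0) (hdiv : ∀ i ∈ T, (p : ℤ) ∣ a i + b i)
    (h11 : ∑ i ∈ T, (f i : ℚ) ^ 2 = 1 + (d : ℚ) ^ 2 + m * (y : ℚ) ^ 2)
    (h12 : ∑ i ∈ T, (f i : ℚ) * A i = 1 + (d : ℚ) * v + m * ((y : ℚ) * w))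
    (h22 : ∑ i ∈ T, (A i : ℚ) ^ 2 = 1 + (v : ℚ) ^ 2 + m * (w : ℚ) ^ 2)
    (h3 : ∑ i ∈ T, (A i : ℚ) ^ 2 * a i / f i = 1 + m * (w : ℚ) ^ 2 / y) :
    d = 1 ∨ v = d := by
  classical
  subst hy hw
  by_contra hcon
  push Not at hcon
  obtain ⟨hd1, hvd⟩ := hcon
  set u : ℚ := (d : ℚ) - v with hu
  have hu0 : u ≠ 0 := by
    rw [hu, sub_ne_zero]
    intro h
    exact hvd (by exact_mod_cast h.symm)
  have hgu : ∀ i ∈ T, ((a i : ℚ) - b i) * u = A i * (1 + d) - f i * (1 + v) := by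
    intro i hi
    rw [hu, hf i hi, hA i hi]
    push_cast
    ring
  have hku : ∀ i ∈ T, ((a i : ℚ) + b i) * u = f i * (1 - v) - A i * (1 - d) := by
    intro i hi
    rw [hu, hf i hi, hA i hi]
    push_cast
    ring
  push_cast at h11 h12 h22 h3
  have hgg : ∑ i ∈ T, (a i - b i) ^ 2 = 2 := by
    have h : (∑ i ∈ T, ((a i : ℚ) - b i) ^ 2) * u ^ 2 = 2 * u ^ 2 := by
      rw [Finset.sum_mul, Finset.sum_congr rfl (g := fun i =>
        (1 + (d : ℚ)) ^ 2 * (A i : ℚ) ^ 2 - 2 * (1 + d) * (1 + v) * ((f i : ℚ) * A i) +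
          (1 + (v : ℚ)) ^ 2 * (f i : ℚ) ^ 2) fun i hi => by rw [← mul_pow, hgu i hi]; ring]
      rw [Finset.sum_add_distrib, Finset.sum_sub_distrib, ← Finset.mul_sum, ← Finset.mul_sum,
        ← Finset.mul_sum, h11, h12, h22, hu]
      ring
    have h2 := mul_right_cancel₀ (pow_ne_zero 2 hu0) h
    exact_mod_cast h2
  have hgk : ∑ i ∈ T, (a i - b i) * (a i + b i) = 0 := by
    have h : (∑ i ∈ T, ((a i : ℚ) - b i) * ((a i : ℚ) + b i)) * u ^ 2 = 0 * u ^ 2 := by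
      rw [Finset.sum_mul, Finset.sum_congr rfl (g := fun i =>
        ((1 + (d : ℚ)) * (1 - v) + (1 + v) * (1 - d)) * ((f i : ℚ) * A i) -
          (1 + (d : ℚ)) * (1 - d) * (A i : ℚ) ^ 2 -
          (1 + (v : ℚ)) * (1 - v) * (f i : ℚ) ^ 2) fun i hi => by
        rw [show ((a i : ℚ) - b i) * ((a i : ℚ) + b i) * u ^ 2 =
          (((a i : ℚ) - b i) * u) * (((a i : ℚ) + b i) * u) by ring, hgu i hi, hku i hi]; ring]
      rw [Finset.sum_sub_distrib, Finset.sum_sub_distrib, ← Finset.mul_sum, ← Finset.mul_sum,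
        ← Finset.mul_sum, h11, h12, h22]
      ring
    have h2 := mul_right_cancel₀ (pow_ne_zero 2 hu0) h
    exact_mod_cast h2
  have hcub : (d : ℚ) * ∑ i ∈ T, ((a i : ℚ) - b i) * (A i : ℚ) ^ 2 / f i = d - (v : ℚ) ^ 2 := by
    rw [Finset.mul_sum, Finset.sum_congr rfl (g := fun i =>
      (1 + (d : ℚ)) * ((A i : ℚ) ^ 2 * a i / f i) - (A i : ℚ) ^ 2) fun i hi => by
      have : (f i : ℚ) ≠ 0 := Int.cast_ne_zero.2 (hf0 i hi)
      field_simp
      rw [hf i hi]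
      push_cast
      ring]
    rw [Finset.sum_sub_distrib, ← Finset.mul_sum, h3, h22]
    have : (1 + (d : ℚ)) ≠ 0 := by exact_mod_cast hy0
    field_simp
    ring
  obtain ⟨i, hi, j, hj, hij, hgi, hgj, hrest⟩ := two_of_sq_sum T (fun i => a i - b i) hgg
  have hpair : ∀ F : ι → ℚ, (∀ k ∈ T, a k - b k = 0 → F k = 0) → ∑ k ∈ T, F k = F i + F j :=
    fun F hF => Finset.sum_eq_add_of_mem i j hi hj hij fun k hk hne =>
      hF k hk (hrest k hk hne.1 hne.2)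
  have hgk' : ((∑ k ∈ T, (a k - b k) * (a k + b k) : ℤ) : ℚ) = 0 := by exact_mod_cast hgk
  push_cast at hgk'
  rw [hpair _ fun k _ h => by
    rw [show ((a k : ℚ) - b k) = ((a k - b k : ℤ) : ℚ) by push_cast; ring, h]; simp] at hgk'
  rw [hpair _ fun k _ h => by
    rw [show ((a k : ℚ) - b k) = ((a k - b k : ℤ) : ℚ) by push_cast; ring, h]; simp] at hcub
  set K : ℤ := (a i - b i) * (a i + b i) with hK
  have hKp : (p : ℤ) ∣ K := (hdiv i hi).mul_left _
  have hK1 : K ^ 2 ≠ 1 := by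
    intro h
    have hu1 : IsUnit K := IsUnit.of_mul_eq_one K (by rw [← h, sq])
    have h2 := isUnit_of_dvd_unit hKp hu1
    rw [Int.isUnit_iff_natAbs_eq, Int.natAbs_natCast] at h2
    omega
  -- the two rows
  have hrow : ∀ k ∈ T, (a k - b k) ^ 2 = 1 →
      ∀ L : ℚ, L = ((a k : ℚ) - b k) * ((a k : ℚ) + b k) →
        L * (1 + d) + (1 - d) ≠ 0 ∧
        ((a k : ℚ) - b k) * (A k : ℚ) ^ 2 / f k =
          (L * (1 + v) + (1 - v)) ^ 2 / (2 * (L * (1 + d) + (1 - d))) := by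
    intro k hk hg L hL
    subst hL
    have hg' : ((a k : ℚ) - b k) * ((a k : ℚ) - b k) = 1 := by
      rw [← sq]; exact_mod_cast hg
    set g : ℚ := (a k : ℚ) - b k with hgdef
    have hg0 : g ≠ 0 := fun h => by rw [h, mul_zero] at hg'; exact zero_ne_one hg'
    have e1 : g * ((a k : ℚ) + b k) * (1 + d) + (1 - d) = 2 * (g * f k) := by
      rw [hf k hk]
      push_cast
      linear_combination -(1 - (d : ℚ)) * hg' + 0 * hgdef
    have e2 : g * ((a k : ℚ) + b k) * (1 + v) + (1 - v) = 2 * (g * A k) := by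
      rw [hA k hk]
      push_cast
      linear_combination -(1 - (v : ℚ)) * hg' + 0 * hgdef
    have hfk : (f k : ℚ) ≠ 0 := Int.cast_ne_zero.2 (hf0 k hk)
    refine ⟨by rw [e1]; exact mul_ne_zero two_ne_zero (mul_ne_zero hg0 hfk), ?_⟩
    rw [e1, e2]
    field_simp
  obtain ⟨hn1, r1⟩ := hrow i hi hgi (K : ℚ) (by rw [hK]; push_cast; ring)
  obtain ⟨hn2, r2⟩ := hrow j hj hgj (-(K : ℚ)) (by rw [hK]; push_cast; linear_combination -hgk')
  rw [r1, r2, div_add_div _ _ (mul_ne_zero two_ne_zero hn1) (mul_ne_zero two_ne_zero hn2),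
    mul_div_assoc', div_eq_iff (mul_ne_zero (mul_ne_zero two_ne_zero hn1)
      (mul_ne_zero two_ne_zero hn2))] at hcub
  have key : ((d : ℚ) - v) ^ 2 * (((K : ℚ)) ^ 2 - 1) * (1 - d) = 0 := by
    linear_combination (-1 / 4 : ℚ) * hcub
  have h1 : ((K : ℚ)) ^ 2 - 1 ≠ 0 := by
    rw [sub_ne_zero]
    exact_mod_cast hK1
  have h2 : (1 : ℚ) - d ≠ 0 := by
    rw [sub_ne_zero]
    intro h
    exact hd1 (by exact_mod_cast h.symm)
  exact mul_ne_zero (mul_ne_zero (pow_ne_zero 2 hu0) h1) h2 key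

end Cfsg.Agent.InvertedSylow
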