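import Mathlib
import Cfsg.Agent.BlockThms.AbelianTI.Exceptional
import Cfsg.Agent.BlockChar.Support
import Cfsg.Agent.Char.Zero

/-!
# The principal block for a noncyclic abelian Sylow subgroup with fusion by inversion
-/

set_option autoImplicit false
set_option linter.unusedSectionVars false

open Cfsg
open scoped ComplexConjugate

namespace Cfsg.Agent.InvertedSylow

universe u

/-- A noncyclic abelian Sylow subgroup inverted by part of its normalizer and centralized by the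
rest. -/
structure Inverted {G : Type u} [Group G] {p : ℕ} (P : Sylow p G) : Prop where
  comm : IsMulCommutative (P : Subgroup G)
  nc : ¬ IsCyclic (P : Subgroup G)
  act : ∀ n ∈ Subgroup.normalizer (P : Set G),
    (∀ x ∈ (P : Subgroup G), n * x * n⁻¹ = x) ∨ (∀ x ∈ (P : Subgroup G), n * x * n⁻¹ = x⁻¹)
  ex : ∃ n ∈ Subgroup.normalizer (P : Set G), ∀ x ∈ (P : Subgroup G), n * x * n⁻¹ = x⁻¹

variable {G : Type u} [Group G] {p : ℕ} [hp : Fact p.Prime] {P : Sylow p G}

theorem eq_one_of_inv (hp2 : p ≠ 2) {x : G} (hx : x ∈ (P : Subgroup G)) (h : x = x⁻¹) :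
    x = 1 := by
  obtain ⟨k, hk⟩ := P.isPGroup' ⟨x, hx⟩
  have h2 : x ^ 2 = 1 := by rw [sq]; nth_rw 2 [h]; rw [mul_inv_cancel]
  have hk' : x ^ p ^ k = 1 := congrArg Subtype.val hk
  exact orderOf_eq_one_iff.1 (Nat.eq_one_of_dvd_coprimes
    (((Nat.coprime_primes hp.out Nat.prime_two).2 hp2).pow_left k)
    (orderOf_dvd_of_pow_eq_one hk') (orderOf_dvd_of_pow_eq_one h2))

theorem Inverted.sq_le_card [Finite G] (h : Inverted P) :
    p ^ 2 ≤ Nat.card (P : Subgroup G) := by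
  obtain ⟨k, hk⟩ := IsPGroup.iff_card.1 P.isPGroup'
  rw [hk]
  refine Nat.pow_le_pow_right hp.out.pos ?_
  by_contra hlt
  rcases (show k = 0 ∨ k = 1 by omega) with rfl | rfl
  · have : Subsingleton (P : Subgroup G) :=
      (Nat.card_eq_one_iff_unique.1 (by rw [hk, pow_zero])).1
    exact h.nc isCyclic_of_subsingleton
  · exact h.nc (isCyclic_of_prime_card (p := p) (by rw [hk, pow_one]))

theorem mem_centralizer_iff_fix {n : G} :
    n ∈ Subgroup.centralizer (P : Set G) ↔ ∀ x ∈ (P : Subgroup G), n * x * n⁻¹ = x := by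
  rw [Subgroup.mem_centralizer_iff]
  refine forall₂_congr fun x _ => ?_
  rw [mul_inv_eq_iff_eq_mul, eq_comm]

theorem Inverted.setup [Finite G] (hp2 : p ≠ 2) (h : Inverted P) :
    BlockThms.AbelianTI.Setup P 2 := by
  have hC : ∀ n ∈ Subgroup.normalizer (P : Set G), ∀ y ∈ (P : Subgroup G), y ≠ 1 →
      n * y * n⁻¹ = y → n ∈ Subgroup.centralizer (P : Set G) := by
    intro n hn y hy hy1 hfix
    rcases h.act n hn with h' | h'
    · exact mem_centralizer_iff_fix.2 h'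
    · exact absurd (eq_one_of_inv hp2 hy (hfix.symm.trans (h' y hy))) hy1
  have hle := Subgroup.centralizer_le_normalizer (P : Set G)
  refine ⟨h.comm, ?_, fun y hy hy1 => ?_⟩
  · obtain ⟨s, hs, hsinv⟩ := h.ex
    rw [Subgroup.relIndex, Subgroup.index_eq_two_iff]
    refine ⟨⟨s, hs⟩, fun b => ?_⟩
    simp only [Subgroup.mem_subgroupOf, Subgroup.coe_mul]
    rcases h.act b b.2 with hb | hb
    · refine Or.inr ⟨mem_centralizer_iff_fix.2 hb, fun hbs => ?_⟩
      have hsC := mem_centralizer_iff_fix.1 ((Subgroup.mul_mem_cancel_left _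
        (mem_centralizer_iff_fix.2 hb)).1 hbs)
      refine h.nc ?_
      have : Subsingleton (P : Subgroup G) := ⟨fun a c => Subtype.ext (by
        rw [eq_one_of_inv hp2 a.2 ((hsC a a.2).symm.trans (hsinv a a.2)),
          eq_one_of_inv hp2 c.2 ((hsC c c.2).symm.trans (hsinv c c.2))])⟩
      exact isCyclic_of_subsingleton
    · refine Or.inl ⟨mem_centralizer_iff_fix.2 fun x hx => ?_, fun hbC => ?_⟩
      · rw [show (b : G) * s * x * ((b : G) * s)⁻¹ = (b : G) * (s * x * s⁻¹) * (b : G)⁻¹ by group,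
          hsinv x hx, hb _ (inv_mem hx), inv_inv]
      · refine h.nc ?_
        have hbC' := mem_centralizer_iff_fix.1 hbC
        have : Subsingleton (P : Subgroup G) := ⟨fun a c => Subtype.ext (by
          rw [eq_one_of_inv hp2 a.2 ((hbC' a a.2).symm.trans (hb a a.2)),
            eq_one_of_inv hp2 c.2 ((hbC' c c.2).symm.trans (hb c c.2))])⟩
        exact isCyclic_of_subsingleton
  · refine le_antisymm ?_ (le_inf (fun n hn => ?_) hle)
    · rintro n ⟨hn1, hn2⟩
      refine hC n hn2 y hy hy1 (mul_inv_eq_iff_eq_mul.2 ?_)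
      exact Subgroup.mem_centralizer_singleton_iff.1 hn1
    · exact Subgroup.mem_centralizer_singleton_iff.2 (Subgroup.mem_centralizer_iff.1 hn y hy).symm

/-- The principal block in signed form. -/
theorem Inverted.block [Fintype G] (hp2 : p ≠ 2) (h : Inverted P) {M : Ideal Cfsg.AlgInt}
    (hM : Cfsg.IsPModular p M) :
    ∃ (χ : Cfsg.IrrCharacter G) (a δ : ℤ) (Y : Finset (Cfsg.IrrCharacter G)),
      χ ≠ Blocks.triv G ∧ χ ∉ Y ∧ Blocks.triv G ∉ Y ∧ (a = 1 ∨ a = -1) ∧ (δ = 1 ∨ δ = -1) ∧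
      (∀ θ, θ ∈ Cfsg.principalBlock M G ↔ θ = Blocks.triv G ∨ θ = χ ∨ θ ∈ Y) ∧
      (∀ η ∈ Y, ∀ g : G, ¬ p ∣ orderOf g →
        (δ : ℂ) * (η : G → ℂ) g = 1 + (a : ℂ) * (χ : G → ℂ) g) ∧
      (∀ g : G, p ∣ orderOf g → 1 + (δ : ℂ) * ∑ η ∈ Y, (η : G → ℂ) g = 0) ∧
      (p : ℤ) ∣ a * (Cfsg.charDegree (χ : G → ℂ) : ℤ) - 1 := by
  classical
  have hS := h.setup hp2
  have hP := h.sq_le_card
  have hp3 : 3 ≤ p := by have := hp.out.two_le; omega
  obtain ⟨X, Y, a, d, δ, ζ, hE⟩ := hS.exceptional hM (by nlinarith)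
  have hY4 : 4 ≤ Y.card := by have := hE.card_mul; nlinarith
  have hasq : ∀ θ ∈ X, 1 ≤ a θ ^ 2 := fun θ hθ => by
    have := hE.a_ne θ hθ
    nlinarith [sq_pos_of_ne_zero this]
  have hXsum : (X.card : ℤ) ≤ ∑ θ ∈ X, a θ ^ 2 := by
    rw [show (X.card : ℤ) = ∑ θ ∈ X, (1 : ℤ) by simp]
    exact Finset.sum_le_sum hasq
  have hX1 : (1 : ℤ) ≤ X.card := by
    exact_mod_cast Finset.card_pos.2 ⟨_, hE.triv_mem⟩
  have hn := hE.norm
  have hd : d = 0 := by
    by_contra hd
    have h1 : 1 ≤ d ^ 2 := by have := sq_pos_of_ne_zero hd; omega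
    have h3 : (3 : ℤ) ≤ ((Y.card : ℤ) - 1) * d ^ 2 := by
      have : (3 : ℤ) ≤ (Y.card : ℤ) - 1 := by omega
      nlinarith
    have := sq_nonneg (d - δ)
    push_cast at hn
    omega
  subst hd
  have hδ2 : δ ^ 2 = 1 := by rcases hE.sign with e | e <;> simp [e]
  have hsum2 : ∑ θ ∈ X, a θ ^ 2 = 2 := by
    push_cast at hn
    linear_combination hn - hδ2
  obtain ⟨χ, hχ, hχt⟩ : ∃ χ ∈ X, χ ≠ Blocks.triv G := by
    by_contra! hall
    rw [show X = {Blocks.triv G} from Finset.eq_singleton_iff_unique_mem.2 ⟨hE.triv_mem, hall⟩,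
      Finset.sum_singleton, hE.a_triv] at hsum2
    norm_num at hsum2
  have hX : X = {Blocks.triv G, χ} := by
    refine (Finset.eq_of_subset_of_card_le (Finset.insert_subset hE.triv_mem
      (Finset.singleton_subset_iff.2 hχ)) ?_).symm
    rw [Finset.card_pair hχt.symm]
    have : (X.card : ℤ) ≤ 2 := hsum2 ▸ hXsum
    exact_mod_cast this
  rw [hX, Finset.sum_pair hχt.symm, hE.a_triv, one_pow] at hsum2
  have ha : a χ = 1 ∨ a χ = -1 := sq_eq_one_iff.1 (by linarith)
  have hrel : ∀ η ∈ Y, ∀ g : G, ¬ p ∣ orderOf g →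
      (δ : ℂ) * (η : G → ℂ) g = 1 + (a χ : ℂ) * (χ : G → ℂ) g := by
    intro η hη g hg
    have h1 := hE.relation η hη g hg
    rw [hX, Finset.sum_pair hχt.symm, hE.a_triv] at h1
    simp [Blocks.triv] at h1
    linear_combination -h1
  have hdeg : ∀ θ : Cfsg.IrrCharacter G, (θ : G → ℂ) 1 = (Cfsg.charDegree (θ : G → ℂ) : ℂ) :=
    fun θ => (Blocks.charDegree_cast (Char.IsIrr.isCharacter θ.2)).symm
  have h1reg : ¬ p ∣ orderOf (1 : G) := by rw [orderOf_one, Nat.dvd_one]; exact hp.out.ne_one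
  have hval : ∀ g : G, p ∣ orderOf g → (χ : G → ℂ) g = (a χ : ℂ) := by
    intro g hg
    have hpg : IsPGroup p (Subgroup.zpowers (Blocks.pPartOf p g)) := by
      obtain ⟨k, hk⟩ : ∃ k, (Blocks.pPartOf p g) ^ p ^ k = 1 :=
        ⟨_, Blocks.pPartOf_pow_ordProj hp.out g⟩
      exact IsPGroup.iff_card.2 (by
        rw [Nat.card_zpowers]
        obtain ⟨i, -, hi⟩ := (Nat.dvd_prime_pow hp.out).1 (orderOf_dvd_of_pow_eq_one hk)
        exact ⟨i, hi⟩)
    obtain ⟨T, hT⟩ := hpg.exists_le_sylow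
    obtain ⟨c, hc⟩ := MulAction.exists_smul_eq G T P
    have hmem : c * Blocks.pPartOf p g * c⁻¹ ∈ (P : Subgroup G) := by
      rw [← hc, Sylow.coe_subgroup_smul]
      exact ⟨_, hT (Subgroup.mem_zpowers _), rfl⟩
    rw [← Char.isClassFunction_of_isIrr χ.2 g c]
    refine hE.valX χ hχ _ ⟨_, hmem⟩ ?_ (by rw [Blocks.pPartOf_conj])
    intro h9
    have h' : c * Blocks.pPartOf p g * c⁻¹ = 1 := congrArg Subtype.val h9
    exact (Blocks.pPartOf_eq_one_iff hp.out g).1 (conj_eq_one_iff.1 h') hg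
  have hYS : ∀ g : G, p ∣ orderOf g → 1 + (δ : ℂ) * ∑ η ∈ Y, (η : G → ℂ) g = 0 := by
    intro g hg
    have h1 := BlockChar.sum_block_degree_mul_eq_zero hM (Blocks.isPBlock_principalBlock (G := G) M)
      (y := g) (fun hr => hr hg)
    rw [← Finset.sum_filter, show Finset.univ.filter (· ∈ Cfsg.principalBlock M G) = X ∪ Y by
      ext θ; simp [hE.mem θ], Finset.sum_union hE.disj, hX, Finset.sum_pair hχt.symm] at h1
    obtain ⟨η₀, hη₀⟩ : Y.Nonempty := Finset.card_pos.1 (by omega)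
    rw [Finset.sum_congr rfl fun η hη => by rw [hE.regular η hη η₀ hη₀ 1 h1reg],
      ← Finset.mul_sum, hval g hg] at h1
    simp [Blocks.triv] at h1
    have hr := hrel η₀ hη₀ 1 h1reg
    refine (mul_eq_zero.1 (?_ : (η₀ : G → ℂ) 1 * _ = 0)).resolve_left (Char.IsIrr.one_ne_zero η₀.2)
    have hδc : (δ : ℂ) * δ = 1 := by
      rw [← sq]; exact_mod_cast hδ2
    linear_combination (δ : ℂ) * h1 + (δ : ℂ) * hr - (η₀ : G → ℂ) 1 * hδc
  refine ⟨χ, a χ, δ, Y, hχt, Finset.disjoint_left.1 hE.disj hχ,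
    Finset.disjoint_left.1 hE.disj hE.triv_mem, ha, hE.sign, fun θ => ?_, hrel, hYS, ?_⟩
  · rw [hE.mem θ, hX, Finset.mem_insert, Finset.mem_singleton, or_assoc]
  · have hP1 : p ∣ Nat.card (P : Subgroup G) := by
      obtain ⟨k, hk⟩ := IsPGroup.iff_card.1 P.isPGroup'
      rw [hk]
      refine dvd_pow_self p ?_
      rintro rfl
      rw [hk] at hP
      nlinarith
    obtain ⟨k, hk⟩ := Char.classInner_isCharacter_eq_natCast
      (Char.isCharacter_comp (P : Subgroup G).subtype (Char.IsIrr.isCharacter χ.2))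
      (Char.isCharacter_one (G := (P : Subgroup G)))
    simp only [Cfsg.classInner, map_one, mul_one] at hk
    rw [inv_mul_eq_iff_eq_mul₀ Char.card_ne_zero, ← Finset.add_sum_erase _ _ (Finset.mem_univ 1),
      Finset.sum_congr rfl (g := fun _ => (a χ : ℂ)) (fun x hx => hval _ ?_),
      Finset.sum_const, Finset.card_erase_of_mem (Finset.mem_univ _), Finset.card_univ,
      ← Nat.card_eq_fintype_card, nsmul_eq_mul, Nat.cast_sub Nat.card_pos] at hk
    · simp only [Subgroup.subtype_apply, OneMemClass.coe_one, hdeg, Nat.cast_one] at hk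
      have h9 : (Cfsg.charDegree (χ : G → ℂ) : ℤ) + ((Nat.card (P : Subgroup G) : ℤ) - 1) * a χ =
          (Nat.card (P : Subgroup G) : ℤ) * k := by exact_mod_cast hk
      have hd9 : (p : ℤ) ∣ (Cfsg.charDegree (χ : G → ℂ) : ℤ) - a χ := by
        refine (Int.natCast_dvd_natCast.2 hP1).trans ⟨(k : ℤ) - a χ, ?_⟩
        linear_combination h9
      obtain ⟨r, hr⟩ := hd9
      refine ⟨a χ * r, ?_⟩
      have : a χ * a χ = 1 := by rcases ha with e | e <;> simp [e]
      linear_combination a χ * hr + this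
    · have hx1 : x ≠ 1 := Finset.ne_of_mem_erase hx
      obtain ⟨i, hi⟩ := IsPGroup.iff_orderOf.1 P.isPGroup' x
      show p ∣ orderOf (x : G)
      rw [Subgroup.orderOf_coe, hi]
      refine dvd_pow_self p ?_
      rintro rfl
      exact hx1 (orderOf_eq_one_iff.1 (by rw [hi, pow_zero]))

/-- Transport along an isomorphism. -/
theorem Inverted.exists_map [Finite G] {H : Type u} [Group H] (φ : H ≃* G) (h : Inverted P) :
    ∃ P' : Sylow p H, Inverted P' := by
  have : Finite H := Finite.of_equiv G φ.symm.toEquiv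
  let P' : Sylow p H := P.comapOfInjective φ.toMonoidHom φ.injective
    fun x _ => MonoidHom.mem_range.2 (φ.surjective x)
  have hmem : ∀ x : H, x ∈ (P' : Subgroup H) ↔ φ x ∈ (P : Subgroup G) := fun x => Iff.rfl
  have hnorm : ∀ n : H, n ∈ Subgroup.normalizer (P' : Set H) →
      φ n ∈ Subgroup.normalizer (P : Set G) := by
    intro n hn
    refine Subgroup.mem_normalizer_iff.2 fun y => ?_
    obtain ⟨y, rfl⟩ := φ.surjective y
    rw [← map_mul, ← map_inv, ← map_mul, ← hmem, ← hmem]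
    exact Subgroup.mem_normalizer_iff.1 hn y
  refine ⟨P', ⟨⟨fun a b => Subtype.ext (φ.injective ?_)⟩⟩, fun hc => h.nc ?_, fun n hn => ?_, ?_⟩
  · rw [Subgroup.coe_mul, Subgroup.coe_mul, map_mul, map_mul]
    exact congrArg Subtype.val (h.comm.is_comm.comm (⟨φ a, a.2⟩ : (P : Subgroup G)) ⟨φ b, b.2⟩)
  · refine isCyclic_of_surjective (f := (⟨⟨fun x => ⟨φ x, x.2⟩, Subtype.ext (map_one φ)⟩,
      fun a b => Subtype.ext (map_mul φ _ _)⟩ : (P' : Subgroup H) →* (P : Subgroup G))) ?_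
    intro y
    exact ⟨⟨φ.symm y, (hmem _).2 (by simp)⟩, Subtype.ext (φ.apply_symm_apply _)⟩
  · rcases h.act _ (hnorm n hn) with h' | h'
    · exact Or.inl fun x hx => φ.injective (by simpa using h' _ hx)
    · exact Or.inr fun x hx => φ.injective (by simpa using h' _ hx)
  · obtain ⟨n, hn, hn'⟩ := h.ex
    refine ⟨φ.symm n, Subgroup.mem_normalizer_iff.2 fun y => ?_, fun x hx => φ.injective ?_⟩
    · simpa [hmem] using Subgroup.mem_normalizer_iff.1 hn (φ y)
    · simpa using hn' _ hx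

end Cfsg.Agent.InvertedSylow
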