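import Mathlib
import Cfsg.Agent.Fusion.AbelianNormal

/-!
# Central extensions for an abelian Sylow subgroup with fusion by inversion

If `P` is a noncyclic abelian Sylow `p`-subgroup in which fusion is given by inversion, then the
corestriction of an alternating form on `P` gives a central extension of `G` by a group of order
`p` contained in the commutator subgroup.
-/

set_option autoImplicit false
set_option linter.unusedSectionVars false

namespace Cfsg.Agent.InvertedSylow

universe u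

open Subgroup

variable {G : Type u} [Group G] {p : ℕ} (P : Subgroup G)

/-- The monomial cocycle of `P`. -/
noncomputable def mono (g : G) (i : G ⧸ P) : P :=
  ⟨(g • i).out⁻¹ * (g * i.out), by
    refine QuotientGroup.eq.1 ?_
    rw [QuotientGroup.out_eq']
    conv_lhs => rw [← QuotientGroup.out_eq' i]
    rfl⟩

theorem coe_mono (g : G) (i : G ⧸ P) : (mono P g i : G) = (g • i).out⁻¹ * (g * i.out) := rfl

theorem mono_mul (g h : G) (i : G ⧸ P) :
    mono P (g * h) i = mono P g (h • i) * mono P h i := by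
  apply Subtype.ext
  simp only [coe_mono, Subgroup.coe_mul, mul_smul]
  group

/-- The additive cocycle of a character of `P`. -/
noncomputable def fCoc (f : P → ZMod p) (g : G) (i : G ⧸ P) : ZMod p := f (mono P g i)

variable {P}

theorem fCoc_mul {f : P → ZMod p} (hf : ∀ a b, f (a * b) = f a + f b) (g h : G) (i : G ⧸ P) :
    fCoc P f (g * h) i = fCoc P f g (h • i) + fCoc P f h i := by
  rw [fCoc, fCoc, fCoc, mono_mul, hf]

theorem fCoc_one {f : P → ZMod p} (hf : ∀ a b, f (a * b) = f a + f b) (i : G ⧸ P) :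
    fCoc P f 1 i = 0 := by
  have h := fCoc_mul hf (1 : G) 1 i
  simpa using h

variable [Finite G]

/-- The two-cocycle of a pair of characters of `P`. -/
noncomputable def coc (f₁ f₂ : P → ZMod p) (g h : G) : ZMod p :=
  ∑ᶠ i : G ⧸ P, fCoc P f₁ g (h • i) * fCoc P f₂ h i

theorem coc_assoc {f₁ f₂ : P → ZMod p} (h₁ : ∀ a b, f₁ (a * b) = f₁ a + f₁ b)
    (h₂ : ∀ a b, f₂ (a * b) = f₂ a + f₂ b) (g h k : G) :
    coc f₁ f₂ g h + coc f₁ f₂ (g * h) k = coc f₁ f₂ h k + coc f₁ f₂ g (h * k) := by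
  classical
  have := Fintype.ofFinite (G ⧸ P)
  simp only [coc, finsum_eq_sum_of_fintype, fCoc_mul h₁, fCoc_mul h₂, mul_smul, add_mul, mul_add,
    Finset.sum_add_distrib]
  rw [← Equiv.sum_comp (MulAction.toPerm k : Equiv.Perm (G ⧸ P))
    (fun i => fCoc P f₁ g (h • i) * fCoc P f₂ h i)]
  simp only [MulAction.toPerm_apply]
  ring

/-- The extension of `G` by `ZMod p`. -/
@[ext]
structure Ext (P : Subgroup G) (f₁ f₂ : P → ZMod p) : Type u where
  /-- The image in `G`. -/
  fst : G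
  /-- The central coordinate. -/
  snd : ZMod p

variable {f₁ f₂ : P → ZMod p}

noncomputable instance : Mul (Ext P f₁ f₂) :=
  ⟨fun a b => ⟨a.fst * b.fst, a.snd + b.snd + coc f₁ f₂ a.fst b.fst⟩⟩

theorem mul_fst (a b : Ext P f₁ f₂) : (a * b).fst = a.fst * b.fst := rfl

theorem mul_snd (a b : Ext P f₁ f₂) :
    (a * b).snd = a.snd + b.snd + coc f₁ f₂ a.fst b.fst := rfl

theorem coc_one_left (h₁ : ∀ a b, f₁ (a * b) = f₁ a + f₁ b) (h : G) :
    coc f₁ f₂ 1 h = 0 := by
  simp [coc, fCoc_one h₁]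

theorem coc_one_right (h₂ : ∀ a b, f₂ (a * b) = f₂ a + f₂ b) (g : G) :
    coc f₁ f₂ g 1 = 0 := by
  simp [coc, fCoc_one h₂]

omit [Finite G] in
theorem sum_zero_aux {X : Type*} [Fintype X] {R : Type*} [CommRing R] (σ τ : Equiv.Perm X)
    (hc : ∀ i, σ (τ i) = τ (σ i)) (e φ ψ : X → R) (heσ : ∀ i, e (σ i) = e i)
    (heτ : ∀ i, e (τ i) = e i) (a a' b b' : R) :
    ∑ i, ((e i * a + φ (σ (τ i)) - φ (τ i)) * (e i * b' + ψ (τ i) - ψ i) -
        (e i * a' + φ (τ (σ i)) - φ (σ i)) * (e i * b + ψ (σ i) - ψ i)) =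
      (∑ i, e i * e i) * (a * b' - a' * b) := by
  have r : ∀ (π : Equiv.Perm X) (F : X → R), ∑ i, F (π i) = ∑ i, F i := fun π F =>
    Equiv.sum_comp π F
  have e1 : ∀ (π : Equiv.Perm X), (∀ i, e (π i) = e i) → ∀ F : X → R,
      ∑ i, e i * F (π i) = ∑ i, e i * F i := fun π hπ F => by
    rw [← r π (fun i => e i * F i)]
    simp only [hπ]
  have q1 := e1 σ heσ φ
  have q2 := e1 τ heτ φ
  have q3 := e1 σ heσ ψ
  have q4 := e1 τ heτ ψ
  have q5 : ∑ i, e i * φ (σ (τ i)) = ∑ i, e i * φ (σ i) := e1 τ heτ (fun i => φ (σ i))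
  have q6 : ∑ i, e i * φ (σ (τ i)) = ∑ i, e i * φ (τ i) := by
    simp only [hc]
    exact e1 σ heσ (fun i => φ (τ i))
  have q7 : ∑ i, φ (σ (τ i)) * ψ (τ i) = ∑ i, φ (σ i) * ψ i := r τ (fun i => φ (σ i) * ψ i)
  have q8 : ∑ i, φ (σ (τ i)) * ψ (σ i) = ∑ i, φ (τ i) * ψ i := by
    simp only [hc]
    exact r σ (fun i => φ (τ i) * ψ i)
  have q9 : ∑ i, φ (τ i) * ψ (τ i) = ∑ i, φ i * ψ i := r τ (fun i => φ i * ψ i)
  have q10 : ∑ i, φ (σ i) * ψ (σ i) = ∑ i, φ i * ψ i := r σ (fun i => φ i * ψ i)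
  have hexp : ∀ i, ((e i * a + φ (σ (τ i)) - φ (τ i)) * (e i * b' + ψ (τ i) - ψ i) -
        (e i * a' + φ (τ (σ i)) - φ (σ i)) * (e i * b + ψ (σ i) - ψ i)) =
      e i * e i * (a * b' - a' * b) + (a * (e i * ψ (τ i) - e i * ψ i)
        + b' * (e i * φ (σ (τ i)) - e i * φ (τ i))
        - a' * (e i * ψ (σ i) - e i * ψ i) - b * (e i * φ (σ (τ i)) - e i * φ (σ i))
        + (φ (σ (τ i)) * ψ (τ i) - φ (τ i) * ψ (τ i) + φ (τ i) * ψ i
          - φ (σ (τ i)) * ψ (σ i) + φ (σ i) * ψ (σ i) - φ (σ i) * ψ i)) := by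
    intro i
    rw [← hc i]
    ring
  simp only [hexp, Finset.sum_add_distrib, Finset.sum_sub_distrib, ← Finset.mul_sum,
    ← Finset.sum_mul]
  linear_combination a * q4 + b' * q6 - a' * q3 - b * q5 + q7 - q9 - q8 + q10

/-- A central extension of order `p` inside the commutator subgroup. -/
theorem exists_extension [hp : Fact p.Prime] (P : Sylow p G)
    (hc : IsMulCommutative (P : Subgroup G)) (hnc : ¬ IsCyclic (P : Subgroup G))
    (hinv : ∀ n ∈ normalizer (P : Set G),
      (∀ x ∈ (P : Subgroup G), n * x * n⁻¹ = x) ∨ (∀ x ∈ (P : Subgroup G), n * x * n⁻¹ = x⁻¹)) :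
    ∃ (E : Type u) (_ : Group E) (_ : Finite E) (π : E →* G) (z : E),
      Function.Surjective π ∧ orderOf z = p ∧ z ∈ Subgroup.center E ∧ π.ker = zpowers z ∧
      z ∈ commutator E := by
  classical
  have hp2 := hp.out.two_le
  set H : Subgroup G := (P : Subgroup G) with hH
  -- two independent characters of `P`
  have : IsMulCommutative H := hc
  let : CommGroup H := IsMulCommutative.instCommGroup
  obtain ⟨ι, hι, n, hn, ⟨e⟩⟩ := CommGroup.equiv_prod_multiplicative_zmod_of_finite H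
  have hpn : ∀ i, p ∣ n i := by
    intro i
    have : ∀ j, NeZero (n j) := fun j => ⟨by have := hn j; omega⟩
    obtain ⟨k, hk⟩ := IsPGroup.iff_card.1 P.isPGroup'
    have h1 : n i ∣ p ^ k := by
      rw [← hk, Nat.card_congr e.toEquiv, Nat.card_pi]
      refine dvd_trans ?_ (Finset.dvd_prod_of_mem _ (Finset.mem_univ i))
      rw [Nat.card_congr Multiplicative.toAdd, Nat.card_zmod]
    obtain ⟨j, -, hj⟩ := (Nat.dvd_prime_pow hp.out).1 h1
    rw [hj]
    refine dvd_pow_self _ ?_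
    rintro rfl
    have := hn i
    rw [hj, pow_zero] at this
    omega
  obtain ⟨i₁, i₂, hne⟩ : ∃ i₁ i₂ : ι, i₁ ≠ i₂ := by
    by_contra! h
    refine hnc ?_
    rcases isEmpty_or_nonempty ι with hι0 | ⟨⟨i⟩⟩
    · have := e.toEquiv.subsingleton
      exact isCyclic_of_subsingleton
    · have : Subsingleton ι := ⟨h⟩
      have : Unique ι := uniqueOfSubsingleton i
      exact ((e.trans (MulEquiv.piUnique fun j => Multiplicative (ZMod (n j)))).isCyclic).2
        inferInstance
  let f : ι → H → ZMod p := fun i x =>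
    ZMod.castHom (hpn i) (ZMod p) (Multiplicative.toAdd (e x i))
  have hf : ∀ i a b, f i (a * b) = f i a + f i b := fun i a b => by
    simp only [f, map_mul, Pi.mul_apply, toAdd_mul, map_add]
  have hfinv : ∀ i a, f i a⁻¹ = - f i a := fun i a => by
    simp only [f, map_inv, Pi.inv_apply, toAdd_inv, map_neg]
  let b : ι → H := fun i => e.symm (Pi.mulSingle i (Multiplicative.ofAdd 1))
  have hfb : ∀ i j, f i (b j) = if i = j then 1 else 0 := by
    intro i j
    split_ifs with h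
    · subst h
      simp only [f, b, MulEquiv.apply_symm_apply, Pi.mulSingle_eq_same, toAdd_ofAdd, map_one]
    · simp only [f, b, MulEquiv.apply_symm_apply, Pi.mulSingle_eq_of_ne h, toAdd_one, map_zero]
  set f₁ := f i₁
  set f₂ := f i₂
  have h₁ : ∀ a b, f₁ (a * b) = f₁ a + f₁ b := hf i₁
  have h₂ : ∀ a b, f₂ (a * b) = f₂ a + f₂ b := hf i₂
  -- the group
  let one : Ext H f₁ f₂ := ⟨1, 0⟩
  let inv : Ext H f₁ f₂ → Ext H f₁ f₂ := fun a =>
    ⟨a.fst⁻¹, -a.snd - coc f₁ f₂ a.fst⁻¹ a.fst⟩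
  let _ : One (Ext H f₁ f₂) := ⟨one⟩
  let _ : Inv (Ext H f₁ f₂) := ⟨inv⟩
  let grp : Group (Ext H f₁ f₂) := Group.ofLeftAxioms
    (fun a b c => by
      refine Ext.ext (mul_assoc _ _ _) ?_
      simp only [mul_snd, mul_fst]
      linear_combination coc_assoc h₁ h₂ a.fst b.fst c.fst)
    (fun a => by
      refine Ext.ext (one_mul a.fst) ?_
      show 0 + a.snd + coc f₁ f₂ 1 a.fst = a.snd
      rw [coc_one_left h₁, zero_add, add_zero])
    (fun a => by
      refine Ext.ext (inv_mul_cancel a.fst) ?_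
      show -a.snd - coc f₁ f₂ a.fst⁻¹ a.fst + a.snd + coc f₁ f₂ a.fst⁻¹ a.fst = 0
      ring)
  have hfin : Finite (Ext H f₁ f₂) :=
    Finite.of_injective (fun a => (a.fst, a.snd)) fun a b h =>
      Ext.ext (congrArg Prod.fst h) (congrArg Prod.snd h)
  let π : Ext H f₁ f₂ →* G :=
    { toFun := Ext.fst, map_one' := rfl, map_mul' := fun _ _ => rfl }
  set z : Ext H f₁ f₂ := ⟨1, 1⟩ with hz
  have hone : (1 : Ext H f₁ f₂).fst = 1 ∧ (1 : Ext H f₁ f₂).snd = 0 := ⟨rfl, rfl⟩
  have hzpow : ∀ k : ℕ, z ^ k = ⟨1, (k : ZMod p)⟩ := by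
    intro k
    induction k with
    | zero => simpa using Ext.ext hone.1 hone.2
    | succ k ih =>
      rw [pow_succ, ih]
      refine Ext.ext (one_mul 1) ?_
      rw [mul_snd]
      show (k : ZMod p) + 1 + coc f₁ f₂ 1 1 = _
      rw [coc_one_left h₁]
      push_cast
      ring
  have hzc : z ∈ Subgroup.center (Ext H f₁ f₂) := by
    refine Subgroup.mem_center_iff.2 fun a => Ext.ext (by simp [mul_fst, hz]) ?_
    show a.snd + 1 + coc f₁ f₂ a.fst 1 = 1 + a.snd + coc f₁ f₂ 1 a.fst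
    rw [coc_one_left h₁, coc_one_right h₂]
    ring
  have hker : π.ker = zpowers z := by
    refine le_antisymm (fun a ha => ?_) (zpowers_le.2 rfl)
    have h1 : a.fst = 1 := ha
    refine mem_zpowers_iff.2 ⟨(a.snd.val : ℤ), ?_⟩
    rw [zpow_natCast, hzpow, ZMod.natCast_zmod_val]
    exact Ext.ext h1.symm rfl
  have hord : orderOf z = p := by
    refine orderOf_eq_prime ?_ ?_
    · rw [hzpow, ZMod.natCast_self]
      exact Ext.ext hone.1.symm hone.2.symm
    · intro h
      have := congrArg Ext.snd h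
      rw [hone.2] at this
      exact one_ne_zero this
  refine ⟨Ext H f₁ f₂, grp, hfin, π, z, fun g => ⟨⟨g, 0⟩, rfl⟩, hord, hzc, hker, ?_⟩
  -- the commutator pairing
  have := Fintype.ofFinite (G ⧸ H)
  have hfus : ∀ (i : G ⧸ H), ∃ ε : ZMod p, ε * ε = 1 ∧
      ∀ q : G, q ∈ H → q • i = i → ∀ (j : ι) (hq : q ∈ H),
        fCoc H (f j) q i = ε * f j ⟨q, hq⟩ := by
    intro i
    have hmem : ∀ q : G, q • i = i → (mono H q i : G) = i.out⁻¹ * (q * i.out) := fun q h => by
      rw [coe_mono, h]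
    have hpm : ∀ q : G, q ∈ H → q • i = i →
        i.out⁻¹ * (q * i.out) = q ∨ i.out⁻¹ * (q * i.out) = q⁻¹ := by
      intro q hq hqi
      have h2 : i.out⁻¹ * q * i.out⁻¹⁻¹ ∈ H := by
        rw [inv_inv, mul_assoc, ← hmem q hqi]
        exact (mono H q i).2
      obtain ⟨n, hn, hn'⟩ :=
        Fusion.exists_mem_normalizer_conj_of_isMulCommutative (P := P) hc hq _ h2
      rw [inv_inv, mul_assoc _ q i.out] at hn'
      rw [← hn']
      rcases hinv n hn with h | h
      · exact Or.inl (h q hq)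
      · exact Or.inr (h q hq)
    by_cases hall : ∀ q : G, q ∈ H → q • i = i → i.out⁻¹ * (q * i.out) = q
    · refine ⟨1, one_mul 1, fun q hq hqi j _ => ?_⟩
      rw [one_mul, fCoc]
      congr 1
      exact Subtype.ext ((hmem q hqi).trans (hall q hq hqi))
    · push Not at hall
      obtain ⟨r, hr, hri, hrne⟩ := hall
      refine ⟨-1, by ring, fun q hq hqi j _ => ?_⟩
      rw [neg_one_mul, ← hfinv, fCoc]
      congr 1
      refine Subtype.ext ((hmem q hqi).trans ?_)
      rcases hpm q hq hqi with hq1 | hq1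
      · rcases hpm (q * r) (H.mul_mem hq hr) (by rw [mul_smul, hri, hqi]) with h | h
        · refine absurd ?_ hrne
          have h' : i.out⁻¹ * (q * i.out) * (i.out⁻¹ * (r * i.out)) = q * r := by
            rw [← h]; group
          rw [hq1] at h'
          exact mul_left_cancel h'
        · have h' : i.out⁻¹ * (q * i.out) * (i.out⁻¹ * (r * i.out)) = (q * r)⁻¹ := by
            rw [← h]; group
          rw [hq1, (hpm r hr hri).resolve_left hrne] at h'
          have hcomm : q * r = r * q := congrArg Subtype.val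
            (hc.is_comm.comm (⟨q, hq⟩ : H) ⟨r, hr⟩)
          rw [hcomm, mul_inv_rev] at h'
          rw [hq1]
          exact mul_right_cancel h'
      · exact hq1
  -- constant on orbits
  have hdec : ∀ j : ι, ∃ (φ : G ⧸ H → ZMod p) (ε : G ⧸ H → ZMod p),
      (∀ i, ε i * ε i = 1) ∧ (∀ (x : H) i, ε ((x : G) • i) = ε i) ∧
      (∀ (x : H) i, fCoc H (f j) (x : G) i = ε i * f j x + φ ((x : G) • i) - φ i) ∧
      ∀ i, ε i = (hfus (Quotient.out (Quotient.mk (MulAction.orbitRel H (G ⧸ H)) i))).choose := by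
    intro j
    let base : G ⧸ H → G ⧸ H := fun i =>
      Quotient.out (Quotient.mk (MulAction.orbitRel H (G ⧸ H)) i)
    have hbase : ∀ i, ∃ r : H, (r : G) • base i = i := by
      intro i
      have h : MulAction.orbitRel H (G ⧸ H) i (base i) :=
        (MulAction.orbitRel H (G ⧸ H)).iseqv.symm (Quotient.mk_out (s := MulAction.orbitRel H (G ⧸ H)) i)
      obtain ⟨r, hr⟩ := MulAction.orbitRel_apply.1 h
      exact ⟨r, hr⟩
    have hbinv : ∀ (x : H) i, base ((x : G) • i) = base i := fun x i => by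
      refine congrArg Quotient.out (Quotient.sound (s := MulAction.orbitRel H (G ⧸ H)) ?_)
      exact MulAction.orbitRel_apply.2 ⟨x, rfl⟩
    choose r hr using hbase
    let ε : G ⧸ H → ZMod p := fun i => (hfus (base i)).choose
    let φ : G ⧸ H → ZMod p := fun i => fCoc H (f j) (r i : G) (base i) - ε i * f j (r i)
    refine ⟨φ, ε, fun i => (hfus (base i)).choose_spec.1, fun x i => by simp only [ε, hbinv],
      fun x i => ?_, fun i => rfl⟩
    have hfix : ((r ((x : G) • i))⁻¹ * x * r i : H).1 • base i = base i := by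
      simp only [Subgroup.coe_mul, Subgroup.coe_inv, mul_smul, hr, inv_smul_eq_iff]
      conv_lhs => rw [← hr ((x : G) • i), hbinv]
    have h3 := (hfus (base i)).choose_spec.2 _ (SetLike.coe_mem _) hfix j (SetLike.coe_mem _)
    set w : H := (r ((x : G) • i))⁻¹ * x * r i with hw
    have hkey : (r ((x : G) • i) : G) * (w : G) = (x : G) * (r i : G) := by
      simp [hw, mul_assoc]
    have h4 := congrArg (fun g => fCoc H (f j) g (base i)) hkey
    simp only [fCoc_mul (hf j), hr, hfix] at h4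
    have h5 : f j w = - f j (r ((x : G) • i)) + f j x + f j (r i) := by
      rw [hw, hf, hf, hfinv]
    have hE : ε ((x : G) • i) = ε i := by simp only [ε, hbinv]
    have h6 : fCoc H (f j) (w : G) (base i) = ε i * f j w := h3
    simp only [φ, hE, hbinv]
    rw [h5] at h6
    linear_combination -h4 + h6
  obtain ⟨φ, ε, hε, hεinv, hφ, hε1⟩ := hdec i₁
  obtain ⟨ψ, ε', -, -, hψ, hε2⟩ := hdec i₂
  have hεε : ε' = ε := funext fun i => by rw [hε1, hε2]
  subst hεε
  set x : H := b i₁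
  set y : H := b i₂
  let σ : Equiv.Perm (G ⧸ H) := MulAction.toPerm (x : G)
  let τ : Equiv.Perm (G ⧸ H) := MulAction.toPerm (y : G)
  have hxy : (x : G) * y = y * x := congrArg Subtype.val (hc.is_comm.comm x y)
  have hδ : coc f₁ f₂ (x : G) y - coc f₁ f₂ (y : G) x = ((Fintype.card (G ⧸ H) : ℕ) : ZMod p) := by
    simp only [coc, finsum_eq_sum_of_fintype, ← Finset.sum_sub_distrib, hφ, hψ, f₁, f₂]
    have key := sum_zero_aux σ τ (fun i => by
      simp only [σ, τ, MulAction.toPerm_apply, ← mul_smul, hxy])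
      ε' φ ψ (fun i => hεinv x i) (fun i => hεinv y i) (f i₁ x) (f i₁ y) (f i₂ x) (f i₂ y)
    simp only [σ, τ, MulAction.toPerm_apply] at key
    simp only [hεinv]
    rw [key]
    simp [x, y, hfb, hne, hne.symm, hε]
  have hcard : ((Fintype.card (G ⧸ H) : ℕ) : ZMod p) ≠ 0 := by
    rw [Ne, ZMod.natCast_eq_zero_iff, ← Nat.card_eq_fintype_card, ← Subgroup.index_eq_card]
    exact P.not_dvd_index
  set k := coc f₁ f₂ (x : G) y - coc f₁ f₂ (y : G) x with hk
  let X : Ext H f₁ f₂ := ⟨x, 0⟩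
  let Y : Ext H f₁ f₂ := ⟨y, 0⟩
  have hXY : X * Y = z ^ k.val * (Y * X) := by
    rw [hzpow]
    refine Ext.ext (by simp [mul_fst, X, Y, hxy]) ?_
    simp only [mul_snd, mul_fst, X, Y, ZMod.natCast_zmod_val, hk]
    rw [coc_one_left h₁]
    ring
  have hkc : z ^ k.val ∈ commutator (Ext H f₁ f₂) := by
    have : z ^ k.val = X * Y * X⁻¹ * Y⁻¹ := by
      rw [hXY]
      group
    rw [this, _root_.commutator_def, ← commutatorElement_def]
    exact Subgroup.commutator_mem_commutator (Subgroup.mem_top _) (Subgroup.mem_top _)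
  have hco : Nat.Coprime k.val (orderOf z) := by
    rw [hord]
    refine Nat.Coprime.symm ((hp.out.coprime_iff_not_dvd).2 ?_)
    rw [← ZMod.natCast_eq_zero_iff, ZMod.natCast_zmod_val]
    exact hδ ▸ hcard
  obtain ⟨m, hm⟩ := exists_pow_eq_self_of_coprime hco
  rw [← hm]
  exact pow_mem hkc m

end Cfsg.Agent.InvertedSylow
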