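import Mathlib
import Cfsg.Agent.BlockChar.RegInner
import Cfsg.Agent.BlockThms.AbelianTI.SmallDegree
import Cfsg.Agent.SmallOrder.Involution
import Cfsg.Agent.Char.ClassAlg

/-!
# Central characters, block orthogonality and products of two involutions in a central extension
-/

set_option autoImplicit false
set_option linter.unusedSectionVars false

open Cfsg
open scoped ComplexConjugate

namespace Cfsg.Agent.InvertedSylow

universe u

/-- Sums over a central character are independent of the character. -/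
theorem fourier {ι : Type*} (T : Finset ι) (ω X : ι → ℂ) {p : ℕ} (hp : p ≠ 0)
    (hω : ∀ i ∈ T, ω i ^ p = 1) (h : ∀ j, 0 < j → j < p → ∑ i ∈ T, ω i ^ j * X i = 0)
    {c : ℂ} (hc : c ^ p = 1) :
    (p : ℂ) * ∑ i ∈ T.filter (fun i => ω i = c), X i = ∑ i ∈ T, X i := by
  classical
  have hc0 : c ≠ 0 := fun e => by rw [e, zero_pow hp] at hc; exact zero_ne_one hc
  have h1 : ∑ j ∈ Finset.range p, ∑ i ∈ T, (ω i / c) ^ j * X i = ∑ i ∈ T, X i := by
    rw [Finset.sum_eq_single 0]
    · simp
    · intro j hj hj0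
      have := h j (Nat.pos_of_ne_zero hj0) (Finset.mem_range.1 hj)
      simp only [div_pow, div_mul_eq_mul_div, ← Finset.sum_div, this, zero_div]
    · intro h0
      exact absurd (Finset.mem_range.2 (Nat.pos_of_ne_zero hp)) h0
  rw [← h1, Finset.sum_comm, Finset.sum_filter, Finset.mul_sum]
  refine Finset.sum_congr rfl fun i hi => ?_
  rw [← Finset.sum_mul]
  split_ifs with hic
  · rw [hic, div_self hc0]
    simp
  · have hne : ω i / c ≠ 1 := fun e => hic ((div_eq_one_iff_eq hc0).1 e)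
    rw [geom_sum_eq hne, div_pow, hω i hi, hc, div_one, sub_self, zero_div, zero_mul, mul_zero]

variable {G : Type u} [Group G] [Fintype G] {p : ℕ} {M : Ideal Cfsg.AlgInt}

/-- Characters of different blocks are orthogonal on the regular elements. -/
theorem regInner_eq_zero (hM : Cfsg.IsPModular p M) {B : Set (Cfsg.IrrCharacter G)}
    (hB : Cfsg.IsPBlock M B) {χ ψ : Cfsg.IrrCharacter G} (hχ : χ ∈ B) (hψ : ψ ∉ B) :
    BlockChar.regSum p (fun w => (ψ : G → ℂ) w * conj ((χ : G → ℂ) w)) = 0 := by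
  classical
  have h : BlockChar.regSum p (fun w => (χ : G → ℂ) w * conj ((ψ : G → ℂ) w)) = 0 := by
    set K : ℂ := ((p ^ Cfsg.blockDefect p B : ℕ) : ℂ) with hK
    have hK0 : K ≠ 0 := Nat.cast_ne_zero.2 (pow_ne_zero _ hM.1.ne_zero)
    refine (mul_eq_zero.1 (?_ : K * _ = 0)).resolve_left hK0
    calc K * BlockChar.regSum p (fun w => (χ : G → ℂ) w * conj ((ψ : G → ℂ) w))
        = ∑ w : G, (∑ φ : Cfsg.IrrCharacter G,
            (if φ ∈ B then BlockChar.regM p B χ φ * (φ : G → ℂ) w else 0)) *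
              conj ((ψ : G → ℂ) w) := by
          rw [BlockChar.regSum, Finset.mul_sum]
          refine Finset.sum_congr rfl fun w _ => ?_
          rw [BlockChar.sum_regM_mul hM hB hχ w]
          by_cases h : Cfsg.IsPRegular p w <;> simp [h, hK, mul_assoc]
      _ = ∑ φ : Cfsg.IrrCharacter G, if φ ∈ B then BlockChar.regM p B χ φ *
            ∑ w : G, (φ : G → ℂ) w * conj ((ψ : G → ℂ) w) else 0 := by
          simp only [Finset.sum_mul]
          rw [Finset.sum_comm]
          refine Finset.sum_congr rfl fun φ _ => ?_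
          split_ifs
          · rw [Finset.mul_sum]
            exact Finset.sum_congr rfl fun w _ => by ring
          · simp
      _ = 0 := by
          refine Finset.sum_eq_zero fun φ _ => ?_
          split_ifs with h
          · have h0 := (Char.classInner_irrChar φ ψ).trans
              (if_neg (show φ ≠ ψ from fun e => hψ (e ▸ h)))
            rw [Cfsg.classInner, mul_eq_zero, inv_eq_zero] at h0
            rw [h0.resolve_left (Nat.cast_ne_zero.2 Nat.card_pos.ne'), mul_zero]
          · rfl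
  have h2 := congrArg conj h
  rw [BlockChar.regSum, map_sum, map_zero] at h2
  rw [BlockChar.regSum]
  refine Eq.trans (Finset.sum_congr rfl fun w _ => ?_) h2
  split_ifs
  · simp [map_mul, mul_comm]
  · simp

/-- The value of the central character at a central element. -/
noncomputable def cval (z : G) (χ : Cfsg.IrrCharacter G) : ℂ :=
  (χ : G → ℂ) z / (χ : G → ℂ) 1

variable {z : G} (hz : z ∈ Subgroup.center G)
include hz

theorem apply_pow_mul (χ : Cfsg.IrrCharacter G) (j : ℕ) (g : G) :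
    (χ : G → ℂ) (z ^ j * g) = cval z χ ^ j * (χ : G → ℂ) g := by
  induction j with
  | zero => simp
  | succ j ih =>
    have h := BlockThms.AbelianTI.apply_mul_central χ.2 (u := z) (fun a => by
      rw [Subgroup.mem_center_iff.1 hz a, mul_inv_cancel_right]) (z ^ j * g)
    have h1 := Char.IsIrr.one_ne_zero χ.2
    rw [pow_succ', mul_assoc]
    rw [cval] at ih ⊢
    rw [pow_succ', mul_assoc ((χ : G → ℂ) z / _), ← ih]
    field_simp
    linear_combination h

theorem cval_pow {n : ℕ} (hn : z ^ n = 1) (χ : Cfsg.IrrCharacter G) : cval z χ ^ n = 1 := by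
  have h := apply_pow_mul hz χ n 1
  rw [hn, mul_one] at h
  exact mul_right_cancel₀ (Char.IsIrr.one_ne_zero χ.2) (h.symm.trans (one_mul _).symm)

/-- A central element of prime order in the commutator subgroup forces the degree. -/
theorem prime_dvd_degree (hp : p.Prime) (hzp : z ^ p = 1) (hzc : z ∈ commutator G)
    (χ : Cfsg.IrrCharacter G) (h1 : cval z χ ≠ 1) :
    p ∣ Cfsg.charDegree (χ : G → ℂ) := by
  obtain ⟨n, ρ, hρ, hχ⟩ := χ.2
  obtain ⟨c, hc, hct⟩ := Char.commute_eq_scalar ρ hρ (ρ z) fun g => by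
    rw [← map_mul, ← map_mul, Subgroup.mem_center_iff.1 hz g]
  have hn : (χ : G → ℂ) 1 = n := by
    rw [← hχ, Representation.char_one, Module.finrank_fin_fun]
  have hcv : cval z χ = c := by
    rw [cval, hn]
    have h9 : (χ : G → ℂ) z = c * (n : ℂ) := by
      rw [← hχ]
      rw [Module.finrank_fin_fun] at hct
      exact hct.symm
    rw [h9]
    have : (n : ℂ) ≠ 0 := hn ▸ Char.IsIrr.one_ne_zero χ.2
    field_simp
  have hdeg : Cfsg.charDegree (χ : G → ℂ) = n := Blocks.charDegree_eq (n := n) hn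
  rw [hdeg]
  have hdet : c ^ n = 1 := by
    have h := Char.hom_commutator_eq_one ((LinearMap.det.comp ρ).toHomUnits) hzc
    have h2 : LinearMap.det (ρ z) = 1 := congrArg Units.val h
    rwa [hc, LinearMap.det_smul, LinearMap.det_id, mul_one, Module.finrank_fin_fun] at h2
  have hcp : c ^ p = 1 := hcv ▸ cval_pow hz hzp χ
  have hord : orderOf c = p := by
    have := Fact.mk hp
    exact orderOf_eq_prime hcp (hcv ▸ h1)
  exact hord ▸ orderOf_dvd_of_pow_eq_one hdet

omit hz in
/-- A product of two conjugates of an involution has no part of order `p` in the centre. -/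
theorem not_isConj_mul (hp : p.Prime) (hp2 : p ≠ 2) {z : G} (hz : z ∈ Subgroup.center G)
    (hzo : orderOf z = p) {t : G} (ht : t * t = 1) {g : G} (hg : ¬ p ∣ orderOf g) {j : ℕ}
    (hj : 0 < j) (hjp : j < p) {x y : G} (hx : IsConj t x) (hy : IsConj t y) :
    ¬ IsConj (z ^ j * g) (x * y) := by
  intro h
  obtain ⟨a, rfl⟩ := isConj_iff.1 hx
  obtain ⟨b, rfl⟩ := isConj_iff.1 hy
  obtain ⟨k, hk⟩ := isConj_iff.1 h
  have hti : t⁻¹ = t := inv_eq_of_mul_eq_one_right ht
  set u := a * t * a⁻¹ * (b * t * b⁻¹) with hu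
  have hrev : a * t * a⁻¹ * u * (a * t * a⁻¹)⁻¹ = u⁻¹ := by
    have e : u⁻¹ = b * t⁻¹ * b⁻¹ * (a * t⁻¹ * a⁻¹) := by rw [hu]; group
    rw [e, hti, hu]
    calc _ = a * (t * t) * a⁻¹ * (b * t * b⁻¹) * (a * t⁻¹ * a⁻¹) := by group
      _ = _ := by rw [ht, hti, mul_one, mul_inv_cancel, one_mul]
  have hzc : z ^ j ∈ Subgroup.center G := pow_mem hz j
  have hpow : u ^ orderOf g = z ^ (j * orderOf g) := by
    rw [← hk, conj_pow, (Commute.symm (Subgroup.mem_center_iff.1 hzc g)).mul_pow,
      pow_orderOf_eq_one, mul_one, ← pow_mul, Subgroup.mem_center_iff.1 (pow_mem hz _) k,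
      mul_inv_cancel_right]
  have h2 := congrArg (· ^ orderOf g) hrev
  simp only [conj_pow, inv_pow, hpow] at h2
  rw [Subgroup.mem_center_iff.1 (pow_mem hz _) (a * t * a⁻¹), mul_inv_cancel_right,
    eq_inv_iff_mul_eq_one, ← pow_add, ← orderOf_dvd_iff_pow_eq_one, hzo] at h2
  rw [← two_mul] at h2
  rcases (hp.dvd_mul.1 h2) with h3 | h3
  · exact hp2 ((Nat.prime_dvd_prime_iff_eq hp Nat.prime_two).1 h3)
  · rcases hp.dvd_mul.1 h3 with h4 | h4
    · have := Nat.le_of_dvd hj h4
      omega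
    · exact hg h4

omit hz in
/-- The characters of a central extension at products of two involutions. -/
theorem sum_cval_mul (hp : p.Prime) (hp2 : p ≠ 2) {z : G} (hz : z ∈ Subgroup.center G)
    (hzo : orderOf z = p) {t : G} (ht : orderOf t = 2) {g : G} (hg : ¬ p ∣ orderOf g) {j : ℕ}
    (hj : 0 < j) (hjp : j < p) :
    ∑ χ : Cfsg.IrrCharacter G,
      cval z χ ^ j * ((χ : G → ℂ) t ^ 2 / (χ : G → ℂ) 1 * (χ : G → ℂ) g) = 0 := by
  classical
  set K := Finset.univ.filter (IsConj t)
  have ht' : t * t = 1 := by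
    have := ht ▸ pow_orderOf_eq_one t
    rwa [sq] at this
  have h0 : ∑ x ∈ K, ∑ y ∈ K, ∑ χ : Cfsg.IrrCharacter G,
      (χ : G → ℂ) (z ^ j * g) * conj ((χ : G → ℂ) (x * y)) = 0 := by
    refine Finset.sum_eq_zero fun x hx => Finset.sum_eq_zero fun y hy => ?_
    rw [Char.second_orthogonality, if_neg (not_isConj_mul hp hp2 hz hzo ht' hg hj hjp
      (Finset.mem_filter.1 hx).2 (Finset.mem_filter.1 hy).2)]
  rw [Finset.sum_congr rfl fun x _ => Finset.sum_comm, Finset.sum_comm] at h0
  set I : ℂ := ((Subgroup.centralizer ({t} : Set G)).index : ℂ)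
  have hI : I ≠ 0 := Nat.cast_ne_zero.2 Subgroup.index_ne_zero_of_finite
  have key : ∀ χ : Cfsg.IrrCharacter G,
      ∑ x ∈ K, ∑ y ∈ K, (χ : G → ℂ) (z ^ j * g) * conj ((χ : G → ℂ) (x * y)) =
        I ^ 2 * (cval z χ ^ j * ((χ : G → ℂ) t ^ 2 / (χ : G → ℂ) 1 * (χ : G → ℂ) g)) := by
    intro χ
    have h : (χ : G → ℂ) 1 * ∑ x ∈ K, ∑ y ∈ K, (χ : G → ℂ) (x * y) =
        I * I * (χ : G → ℂ) t * (χ : G → ℂ) t := by
      convert Char.sum_classes_mul χ.2 t t
    obtain ⟨v, hv⟩ := SmallOrder.exists_int_apply_involution (Char.IsIrr.isCharacter χ.2) ht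
    have h1 := Char.IsIrr.one_ne_zero χ.2
    have hs : ∑ x ∈ K, ∑ y ∈ K, conj ((χ : G → ℂ) (x * y)) =
        I * I * (χ : G → ℂ) t ^ 2 / (χ : G → ℂ) 1 := by
      have hc := congrArg conj h
      simp only [map_mul, map_sum, hv, map_intCast, show conj I = I from map_natCast _ _] at hc
      rw [show conj ((χ : G → ℂ) 1) = (χ : G → ℂ) 1 by
        rw [← Char.IsChar.inv_eq_conj (Char.IsIrr.isCharacter χ.2), inv_one]] at hc
      rw [hv, eq_div_iff h1, mul_comm _ ((χ : G → ℂ) 1)]
      rw [hc]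
      ring
    simp only [← Finset.mul_sum]
    rw [apply_pow_mul hz χ j g, hs]
    ring
  rw [Finset.sum_congr rfl fun χ _ => key χ, ← Finset.mul_sum] at h0
  exact (mul_eq_zero.1 h0).resolve_left (pow_ne_zero 2 hI)

end Cfsg.Agent.InvertedSylow
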