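import Mathlib
import Cfsg.Agent.InvertedSylow.Block
import Cfsg.Agent.InvertedSylow.Lift
import Cfsg.Agent.InvertedSylow.Arith
import Cfsg.Agent.BlockChar.CentralQuotient

/-!
# All involutions lie in the kernel of the character of the principal block

A central extension of order `p` in the commutator subgroup gives a faithful part of the principal
block with the same Cartan matrix; the values at a product of two involutions then force the
non-trivial non-exceptional character to be linear or to contain the involution in its kernel.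
-/

set_option autoImplicit false
set_option linter.unusedSectionVars false

open Cfsg
open scoped ComplexConjugate

namespace Cfsg.Agent.InvertedSylow

universe u

set_option maxHeartbeats 1000000 in
theorem exists_char {E : Type u} [Group E] [Fintype E] {p : ℕ} [hp : Fact p.Prime] (hp2 : p ≠ 2)
    (N : Subgroup E) [N.Normal] {z : E} (hN : N = Subgroup.zpowers z)
    (hzc : z ∈ Subgroup.center E) (hzo : orderOf z = p) (hzd : z ∈ commutator E)
    {P : Sylow p (E ⧸ N)} (h : Inverted P) :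
    ∃ χ : Cfsg.IrrCharacter (E ⧸ N), χ ≠ Blocks.triv (E ⧸ N) ∧
      (Cfsg.charDegree (χ : E ⧸ N → ℂ) = 1 ∨
        ∀ t : E ⧸ N, orderOf t = 2 → (χ : E ⧸ N → ℂ) t = (χ : E ⧸ N → ℂ) 1) := by
  classical
  have := Fintype.ofFinite (E ⧸ N)
  obtain ⟨M, hM⟩ := Blocks.exists_isPModular p hp.out
  obtain ⟨χ, a, δ, Y, hχt, hχY, htY, ha, hδ, hmem, hrel, hYS, hcong⟩ := h.block hp2 hM
  refine ⟨χ, hχt, or_iff_not_imp_left.2 fun hne tq htq => ?_⟩
  by_contra hker
  -- degrees and values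
  set dg := Cfsg.charDegree (χ : E ⧸ N → ℂ) with hdg
  have hdegc : ∀ {K : Type u} [Group K] [Finite K] (θ : Cfsg.IrrCharacter K),
      (θ : K → ℂ) 1 = (Cfsg.charDegree (θ : K → ℂ) : ℂ) :=
    fun {K} _ _ θ => (Blocks.charDegree_cast (Char.IsIrr.isCharacter θ.2)).symm
  obtain ⟨v0, hv0⟩ := SmallOrder.exists_int_apply_involution (Char.IsIrr.isCharacter χ.2) htq
  set d : ℤ := a * dg with hd
  set v : ℤ := a * v0 with hv
  have hdg0 : 0 < dg := Blocks.charDegree_pos χ.2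
  have ha2 : a * a = 1 := by rcases ha with e | e <;> simp [e]
  have hδ2 : δ * δ = 1 := by rcases hδ with e | e <;> simp [e]
  have hd1 : d ≠ 1 := by
    intro e
    rcases ha with rfl | rfl <;> omega
  have hvd : v ≠ d := by
    intro e
    refine hker ?_
    rw [hv0, hdegc χ, ← hdg]
    have : v0 = (dg : ℤ) := by
      rw [hv, hd] at e
      exact mul_left_cancel₀ (by rcases ha with e' | e' <;> simp [e']) e
    rw [this]
    norm_cast
  have hodd : ¬ 2 ∣ p := fun hh => hp2 ((Nat.prime_dvd_prime_iff_eq Nat.prime_two hp.out).1 hh).symm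
  have hregq1 : ¬ p ∣ orderOf (1 : E ⧸ N) := by rw [orderOf_one, Nat.dvd_one]; exact hp.out.ne_one
  have hreg1 : ¬ p ∣ orderOf (1 : E) := by rw [orderOf_one, Nat.dvd_one]; exact hp.out.ne_one
  have hregt : ∀ {K : Type u} [Group K] (t : K), orderOf t = 2 → ¬ p ∣ orderOf t :=
    fun t ht hh => hp2 ((Nat.prime_dvd_prime_iff_eq hp.out Nat.prime_two).1 (ht ▸ hh))
  -- the lift of the involution
  have hNc : N ≤ Subgroup.center E := hN ▸ Subgroup.zpowers_le.2 hzc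
  have hzp : z ^ p = 1 := hzo ▸ pow_orderOf_eq_one z
  have hNp : IsPGroup p N := IsPGroup.iff_card.2 ⟨1, by
    rw [hN, Nat.card_zpowers, hzo, pow_one]⟩
  obtain ⟨t, ht2, htm⟩ : ∃ t : E, orderOf t = 2 ∧ (t : E ⧸ N) = tq := by
    obtain ⟨e, rfl⟩ := QuotientGroup.mk_surjective tq
    have he2 : (e * e) ^ p = 1 := by
      have h2 : ((e * e : E) : E ⧸ N) = 1 := by
        rw [QuotientGroup.mk_mul, ← sq, ← htq, pow_orderOf_eq_one]
      rw [QuotientGroup.eq_one_iff, hN, Subgroup.mem_zpowers_iff] at h2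
      obtain ⟨k, hk⟩ := h2
      rw [← hk, ← zpow_natCast, ← zpow_mul, mul_comm, zpow_mul, zpow_natCast, hzp, one_zpow]
    have hm : ((e ^ p : E) : E ⧸ N) = (e : E ⧸ N) := by
      rw [QuotientGroup.mk_pow, pow_eq_pow_mod p (htq ▸ pow_orderOf_eq_one _ : (e : E ⧸ N) ^ 2 = 1),
        show p % 2 = 1 by omega, pow_one]
    refine ⟨e ^ p, orderOf_eq_prime ?_ ?_, hm⟩
    · rw [← pow_mul, mul_comm, pow_mul, sq, he2]
    · intro h1
      rw [h1, QuotientGroup.mk_one] at hm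
      rw [← hm, orderOf_one] at htq
      omega
  -- the two principal blocks
  set Bh := Cfsg.principalBlock M E with hBh
  have hBhb : Cfsg.IsPBlock M Bh := Blocks.isPBlock_principalBlock (G := E) M
  obtain ⟨b', hb', hiff, hlift, -⟩ := BlockChar.exists_quotient_block N hM hNp hNc hBhb
  have hinflt : BlockChar.inflIrr N (Blocks.triv (E ⧸ N)) = Blocks.triv E := rfl
  have hbq : b' = Cfsg.principalBlock M (E ⧸ N) :=
    (Blocks.IsPBlock.eq_blockOf hM hb'
        ((hiff _).2 (hinflt ▸ Blocks.triv_mem_principalBlock hM))).trans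
      (Blocks.IsPBlock.eq_blockOf hM (Blocks.isPBlock_principalBlock (G := E ⧸ N) M)
        (Blocks.triv_mem_principalBlock hM)).symm
  have hb'mem : ∀ θ, θ ∈ b' ↔ θ = Blocks.triv (E ⧸ N) ∨ θ = χ ∨ θ ∈ Y := fun θ => by
    rw [hbq, hmem]
  set Sq : Finset (Cfsg.IrrCharacter (E ⧸ N)) := insert (Blocks.triv (E ⧸ N)) (insert χ Y) with hSq
  have hsumSq : ∀ F : Cfsg.IrrCharacter (E ⧸ N) → ℂ, ∑ θ ∈ Sq, F θ =
      F (Blocks.triv (E ⧸ N)) + F χ + ∑ η ∈ Y, F η := fun F => by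
    rw [hSq, Finset.sum_insert (by simp [hχt.symm, htY]), Finset.sum_insert hχY, add_assoc]
  -- the projective character
  set Φ : E ⧸ N → ℂ := fun q => 1 + (δ : ℂ) * ∑ η ∈ Y, (η : E ⧸ N → ℂ) q with hΦ
  set c : Cfsg.IrrCharacter (E ⧸ N) → ℤ := fun θ =>
    (if θ = Blocks.triv (E ⧸ N) then 1 else 0) + δ * (if θ ∈ Y then 1 else 0) with hc
  set J : Cfsg.IrrCharacter E → ℂ := fun ξ =>
    ∑ w ∈ Finset.univ.filter (fun w : E => ¬ p ∣ orderOf w),
      (ξ : E → ℂ) w * conj (Φ (w : E ⧸ N)) with hJ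
  set q0 : ℂ := (Nat.card (E ⧸ N) : ℂ) with hq0
  have hq00 : q0 ≠ 0 := Nat.cast_ne_zero.2 Nat.card_pos.ne'
  have horthq : ∀ θ θ' : Cfsg.IrrCharacter (E ⧸ N),
      ∑ q, (θ : E ⧸ N → ℂ) q * conj ((θ' : E ⧸ N → ℂ) q) = if θ = θ' then q0 else 0 := by
    intro θ θ'
    have h0 := Char.classInner_irrChar θ θ'
    rw [Cfsg.classInner, inv_mul_eq_iff_eq_mul₀ Char.card_ne_zero] at h0
    rw [h0]
    split_ifs <;> simp [hq0]
  have hJq : ∀ θ : Cfsg.IrrCharacter (E ⧸ N),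
      ∑ w ∈ Finset.univ.filter (fun w : E => ¬ p ∣ orderOf w),
        (θ : E ⧸ N → ℂ) (w : E ⧸ N) * conj (Φ (w : E ⧸ N)) = q0 * (c θ : ℂ) := by
    intro θ
    rw [BlockChar.sum_regular_quotient N hp.out hNp hNc
      (fun q => (θ : E ⧸ N → ℂ) q * conj (Φ q)),
      Finset.sum_subset (Finset.subset_univ _) fun q _ hq => by
        have : p ∣ orderOf q := by simpa using hq
        simp [hΦ, hYS q this]]
    simp only [hΦ, map_add, map_one, map_mul, map_sum, map_intCast, mul_add, mul_one,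
      Finset.sum_add_distrib]
    have e1 : ∑ q, (θ : E ⧸ N → ℂ) q = if θ = Blocks.triv (E ⧸ N) then q0 else 0 := by
      rw [← horthq θ (Blocks.triv (E ⧸ N))]
      exact Finset.sum_congr rfl fun q _ => by simp [Blocks.triv]
    rw [e1, Finset.sum_congr rfl fun q _ => (mul_left_comm ((θ : E ⧸ N → ℂ) q) (δ : ℂ) _),
      ← Finset.mul_sum]
    simp only [Finset.mul_sum (s := Y)]
    rw [Finset.sum_comm]
    simp only [← Finset.mul_sum, horthq, Finset.sum_ite_eq, hc]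
    push_cast
    by_cases h1 : θ = Blocks.triv (E ⧸ N) <;> by_cases h2 : θ ∈ Y <;> simp [h1, h2, htY] <;> ring
  have hJout : ∀ ξ : Cfsg.IrrCharacter E, ξ ∉ Bh → J ξ = 0 := by
    intro ξ hξ
    have h0 : ∀ θ, θ ∈ b' →
        ∑ w ∈ Finset.univ.filter (fun w : E => ¬ p ∣ orderOf w),
          (ξ : E → ℂ) w * conj ((θ : E ⧸ N → ℂ) (w : E ⧸ N)) = 0 := by
      intro θ hθ
      have h9 := regInner_eq_zero hM hBhb ((hiff θ).1 hθ) hξ
      rw [BlockChar.regSum, ← Finset.sum_filter] at h9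
      convert h9
      rfl
    have h1 := h0 _ ((hb'mem _).2 (Or.inl rfl))
    simp only [Blocks.triv, map_one, mul_one] at h1
    simp only [hJ, hΦ, map_add, map_one, map_mul, map_sum, map_intCast, mul_add, mul_one,
      Finset.sum_add_distrib]
    rw [h1, Finset.sum_congr rfl fun w _ => (mul_left_comm ((ξ : E → ℂ) w) (δ : ℂ) _),
      ← Finset.mul_sum]
    simp only [Finset.mul_sum (s := Y)]
    rw [zero_add, Finset.sum_comm]
    refine mul_eq_zero_of_right _ (Finset.sum_eq_zero fun η hη => ?_)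
    exact h0 η ((hb'mem _).2 (Or.inr (Or.inr hη)))
  -- the coefficients
  set T := Finset.univ.filter (fun ξ : Cfsg.IrrCharacter E => ξ ∈ Bh) with hT
  have hcoef : ∀ ξ : Cfsg.IrrCharacter E, ∃ A B : ℤ, ξ ∈ T →
      (∀ w : E, ¬ p ∣ orderOf w → (ξ : E → ℂ) w =
        (A : ℂ) + (B : ℂ) * ((a : ℂ) * (χ : E ⧸ N → ℂ) (w : E ⧸ N))) ∧
      J ξ = q0 * (A : ℂ) := by
    intro ξ
    by_cases hξ : ξ ∈ T
    swap
    · exact ⟨0, 0, fun h => absurd h hξ⟩
    obtain ⟨zc, hzc0, hval⟩ := BlockChar.exists_int_lift N hM hNp hNc hBhb hiff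
      (Finset.mem_filter.1 hξ).2
    have hsup : ∀ F : Cfsg.IrrCharacter (E ⧸ N) → ℂ, ∑ η, (zc η : ℂ) * F η =
        (zc (Blocks.triv (E ⧸ N)) : ℂ) * F (Blocks.triv (E ⧸ N)) + (zc χ : ℂ) * F χ +
          ∑ η ∈ Y, (zc η : ℂ) * F η := fun F => by
      rw [← hsumSq (fun η => (zc η : ℂ) * F η)]
      refine (Finset.sum_subset (Finset.subset_univ _) fun η _ hη => ?_).symm
      by_cases h0 : zc η = 0
      · simp [h0]
      · exact absurd (by simpa [hSq] using (hb'mem η).1 (hzc0 η h0)) hη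
    refine ⟨zc (Blocks.triv (E ⧸ N)) + δ * ∑ η ∈ Y, zc η, a * zc χ + δ * ∑ η ∈ Y, zc η,
      fun _ => ⟨fun w hw => ?_, ?_⟩⟩
    · have hwq : ¬ p ∣ orderOf (w : E ⧸ N) := BlockChar.isPRegular_mk N hw
      rw [hval w hw, hsup (fun η => (η : E ⧸ N → ℂ) (w : E ⧸ N))]
      have e1 : ∀ η ∈ Y, (η : E ⧸ N → ℂ) (w : E ⧸ N) =
          (δ : ℂ) * (1 + (a : ℂ) * (χ : E ⧸ N → ℂ) (w : E ⧸ N)) := fun η hη => by
        rw [← hrel η hη _ hwq, ← mul_assoc, ← Int.cast_mul, hδ2, Int.cast_one, one_mul]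
      rw [Finset.sum_congr rfl fun η hη => by rw [e1 η hη], ← Finset.sum_mul]
      have ha2c : (a : ℂ) * a = 1 := by exact_mod_cast ha2
      simp only [Blocks.triv]
      push_cast
      linear_combination -((zc χ : ℂ) * (χ : E ⧸ N → ℂ) (w : E ⧸ N)) * ha2c
    · simp only [hJ]
      rw [Finset.sum_congr rfl fun w hw => by
          rw [hval w (Finset.mem_filter.1 hw).2, Finset.sum_mul],
        Finset.sum_comm,
        Finset.sum_congr rfl (g := fun η => (zc η : ℂ) * (q0 * (c η : ℂ))) fun η _ => by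
          rw [← hJq η, Finset.mul_sum]
          exact Finset.sum_congr rfl fun w _ => mul_assoc _ _ _,
        hsup]
      have e2 : ∑ η ∈ Y, (zc η : ℂ) * (q0 * (c η : ℂ)) = q0 * δ * ∑ η ∈ Y, (zc η : ℂ) := by
        rw [Finset.mul_sum]
        refine Finset.sum_congr rfl fun η hη => ?_
        simp only [hc, if_pos hη, if_neg (fun e : η = Blocks.triv (E ⧸ N) => htY (e ▸ hη))]
        push_cast
        ring
      rw [e2]
      simp only [hc, if_pos, if_neg htY, if_neg hχt, if_neg hχY]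
      push_cast
      ring
  choose A0 B0 hAB using hcoef
  -- values at `1` and at the involution
  have hvt : ∀ ξ ∈ T, (ξ : E → ℂ) t = ((A0 ξ + v * B0 ξ : ℤ) : ℂ) := by
    intro ξ hξ
    rw [(hAB ξ hξ).1 t (hregt t ht2), htm, hv0, hv]
    push_cast
    ring
  have hv1 : ∀ ξ ∈ T, (ξ : E → ℂ) 1 = ((A0 ξ + d * B0 ξ : ℤ) : ℂ) := by
    intro ξ hξ
    rw [(hAB ξ hξ).1 1 hreg1, QuotientGroup.mk_one, hdegc χ, ← hdg, hd]
    push_cast
    ring
  -- Fourier inversion over the central character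
  set ω : Cfsg.IrrCharacter E → ℂ := cval z with hω
  have hωp : ∀ ξ ∈ T, ω ξ ^ p = 1 := fun ξ _ => cval_pow hzc hzp ξ
  set ω₀ : ℂ := Complex.exp (2 * Real.pi * Complex.I / p) with hω₀
  have hprim : IsPrimitiveRoot ω₀ p := Complex.isPrimitiveRoot_exp p hp.out.ne_zero
  have hsame : ∀ X : Cfsg.IrrCharacter E → ℂ,
      (∀ j, 0 < j → j < p → ∑ ξ ∈ T, ω ξ ^ j * X ξ = 0) →
      ∑ ξ ∈ T.filter (fun ξ => ω ξ = ω₀), X ξ = ∑ ξ ∈ T.filter (fun ξ => ω ξ = 1), X ξ := by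
    intro X hX
    refine mul_left_cancel₀ (Nat.cast_ne_zero.2 hp.out.ne_zero : (p : ℂ) ≠ 0) ?_
    rw [fourier T ω X hp.out.ne_zero hωp hX hprim.pow_eq_one,
      fourier T ω X hp.out.ne_zero hωp hX (one_pow p)]
  have htrivpart : ∀ X : Cfsg.IrrCharacter E → ℂ, ∑ ξ ∈ T.filter (fun ξ => ω ξ = 1), X ξ =
      X (BlockChar.inflIrr N (Blocks.triv (E ⧸ N))) + X (BlockChar.inflIrr N χ) +
        ∑ η ∈ Y, X (BlockChar.inflIrr N η) := by
    intro X
    rw [← hsumSq (fun θ => X (BlockChar.inflIrr N θ)), ← Finset.sum_image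
      (fun θ _ θ' _ e => BlockChar.inflIrr_injective N e)]
    refine Finset.sum_congr ?_ fun _ _ => rfl
    ext ξ
    simp only [Finset.mem_filter, hT, Finset.mem_univ, true_and, Finset.mem_image]
    constructor
    · rintro ⟨hξ, hξ1⟩
      obtain ⟨θ, hθ, rfl⟩ := hlift ξ hξ fun n hn => by
        rw [hN, ← mem_powers_iff_mem_zpowers] at hn
        obtain ⟨j, rfl⟩ := hn
        have h9 := apply_pow_mul hzc ξ j 1
        simp only [mul_one] at h9
        show (ξ : E → ℂ) (z ^ j) = _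
        rw [h9, show cval z ξ = 1 from hξ1, one_pow, one_mul]
      exact ⟨θ, by simpa [hSq] using (hb'mem θ).1 hθ, rfl⟩
    · rintro ⟨θ, hθ, rfl⟩
      refine ⟨(hiff θ).1 ((hb'mem θ).2 (by simpa [hSq] using hθ)), ?_⟩
      have hz1 : ((z : E) : E ⧸ N) = 1 :=
        (QuotientGroup.eq_one_iff _).2 (hN ▸ Subgroup.mem_zpowers z)
      show (θ : E ⧸ N → ℂ) (z : E ⧸ N) / (θ : E ⧸ N → ℂ) ((1 : E) : E ⧸ N) = 1
      rw [hz1, QuotientGroup.mk_one, div_self (Char.IsIrr.one_ne_zero θ.2)]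
  -- weak orthogonality
  have hweak : ∀ g g' : E, ¬ p ∣ orderOf g → ¬ p ∣ orderOf g' → ∀ j, 0 < j → j < p →
      ∑ ξ ∈ T, ω ξ ^ j * ((ξ : E → ℂ) g' * conj ((ξ : E → ℂ) g)) = 0 := by
    intro g g' hg hg' j hj hjp
    have hsing : ¬ Cfsg.IsPRegular p (z ^ j * g') := by
      intro hr
      have hcom : Commute (z ^ j) g' :=
        (Subgroup.mem_center_iff.1 (pow_mem hzc j) g').symm
      have h1 : (z ^ j) ^ (orderOf (z ^ j * g') * orderOf g') = 1 := by
        have h2 : (z ^ j * g') ^ (orderOf (z ^ j * g') * orderOf g') = 1 := by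
          rw [pow_mul, pow_orderOf_eq_one, one_pow]
        rwa [hcom.mul_pow, mul_comm (orderOf (z ^ j * g')) (orderOf g'), pow_mul g',
          pow_orderOf_eq_one, one_pow, mul_one, mul_comm (orderOf g')] at h2
      rw [← pow_mul, ← orderOf_dvd_iff_pow_eq_one, hzo] at h1
      rcases hp.out.dvd_mul.1 h1 with h3 | h3
      · have := Nat.le_of_dvd hj h3
        omega
      · rcases hp.out.dvd_mul.1 h3 with h4 | h4
        · exact hr h4
        · exact hg' h4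
    have h0 := BlockChar.sum_block_eq_zero' hM hBhb (x := g) (y := z ^ j * g') hg hsing
    rw [← Finset.sum_filter] at h0
    rw [← h0]
    refine Finset.sum_congr rfl fun ξ _ => ?_
    rw [apply_pow_mul hzc ξ j g']
    ring
  -- the cubic identity
  have hcubic : ∀ j, 0 < j → j < p →
      ∑ ξ ∈ T, ω ξ ^ j * ((ξ : E → ℂ) t ^ 2 / (ξ : E → ℂ) 1 * J ξ) = 0 := by
    intro j hj hjp
    rw [Finset.sum_subset (Finset.subset_univ T) fun ξ _ hξ => by
      rw [hJout ξ (by simpa [hT] using hξ)]; simp]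
    simp only [hJ, Finset.mul_sum]
    rw [Finset.sum_comm]
    refine Finset.sum_eq_zero fun w hw => ?_
    have h0 := sum_cval_mul hp.out hp2 hzc hzo ht2 (Finset.mem_filter.1 hw).2 hj hjp
    rw [Finset.sum_congr rfl (g := fun ξ : Cfsg.IrrCharacter E =>
      (cval z ξ ^ j * ((ξ : E → ℂ) t ^ 2 / (ξ : E → ℂ) 1 * (ξ : E → ℂ) w)) * conj (Φ (w : E ⧸ N)))
      fun ξ _ => by ring, ← Finset.sum_mul, h0, zero_mul]
  -- the rows
  set U := T.filter (fun ξ => ω ξ = ω₀) with hU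
  have hUT : ∀ ξ ∈ U, ξ ∈ T := fun ξ h => (Finset.mem_filter.1 h).1
  set y : ℤ := 1 + d with hy
  set w : ℤ := 1 + v with hw
  set m : ℕ := Y.card with hm
  have hη1 : ∀ η ∈ Y, (η : E ⧸ N → ℂ) ((1 : E) : E ⧸ N) = ((δ * y : ℤ) : ℂ) := by
    intro η hη
    have h1 := hrel η hη 1 hregq1
    rw [hdegc χ, ← hdg] at h1
    have hδc : (δ : ℂ) * δ = 1 := by exact_mod_cast hδ2
    rw [QuotientGroup.mk_one, hy, hd]
    push_cast
    linear_combination (δ : ℂ) * h1 - (η : E ⧸ N → ℂ) 1 * hδc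
  have hηt : ∀ η ∈ Y, (η : E ⧸ N → ℂ) (t : E ⧸ N) = ((δ * w : ℤ) : ℂ) := by
    intro η hη
    have h1 := hrel η hη tq (hregt tq htq)
    rw [hv0] at h1
    have hδc : (δ : ℂ) * δ = 1 := by exact_mod_cast hδ2
    rw [htm, hw, hv]
    push_cast
    linear_combination (δ : ℂ) * h1 - (η : E ⧸ N → ℂ) tq * hδc
  obtain ⟨η₀, hη₀⟩ : Y.Nonempty := by
    rw [Finset.nonempty_iff_ne_empty]
    intro hY0
    obtain ⟨k, hk⟩ := P.isPGroup'.exists_card_eq
    have h9 := h.sq_le_card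
    have hpc : p ∣ Nat.card (E ⧸ N) := by
      refine dvd_trans ?_ (Subgroup.card_subgroup_dvd_card (P : Subgroup (E ⧸ N)))
      rw [hk]
      refine dvd_pow_self p ?_
      rintro rfl
      rw [hk, pow_zero] at h9
      have := hp.out.two_le
      nlinarith
    obtain ⟨g, hg⟩ := exists_prime_orderOf_dvd_card' p hpc
    have := hYS g (hg ▸ dvd_rfl)
    simp [hY0] at this
  have hy0 : y ≠ 0 := by
    intro h0
    have h9 := hη1 η₀ hη₀
    rw [h0, mul_zero, Int.cast_zero, QuotientGroup.mk_one] at h9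
    exact Char.IsIrr.one_ne_zero η₀.2 h9
  have hconj : ∀ {r : ℤ} {x : ℂ}, x = (r : ℂ) → conj x = (r : ℂ) := fun {r x} h => by
    rw [h, map_intCast]
  have hinfl : ∀ (θ : Cfsg.IrrCharacter (E ⧸ N)) (g : E),
      (BlockChar.inflIrr N θ : E → ℂ) g = (θ : E ⧸ N → ℂ) (g : E ⧸ N) := fun _ _ => rfl
  have hχ1 : (χ : E ⧸ N → ℂ) ((1 : E) : E ⧸ N) = ((a * d : ℤ) : ℂ) := by
    rw [QuotientGroup.mk_one, hdegc χ, ← hdg, hd, ← mul_assoc, ha2, one_mul]
    norm_cast
  have hχt' : (χ : E ⧸ N → ℂ) (t : E ⧸ N) = ((a * v : ℤ) : ℂ) := by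
    rw [htm, hv0, hv, ← mul_assoc, ha2, one_mul]
  have hac : (a : ℂ) * a = 1 := by exact_mod_cast ha2
  have hδc : (δ : ℂ) * δ = 1 := by exact_mod_cast hδ2
  -- the quadratic sums
  have hquad : ∀ (g g' : E) (r r' : ℤ), ¬ p ∣ orderOf g → ¬ p ∣ orderOf g' →
      (∀ ξ ∈ T, (ξ : E → ℂ) g = ((A0 ξ + r * B0 ξ : ℤ) : ℂ)) →
      (∀ ξ ∈ T, (ξ : E → ℂ) g' = ((A0 ξ + r' * B0 ξ : ℤ) : ℂ)) →
      (χ : E ⧸ N → ℂ) (g : E ⧸ N) = ((a * r : ℤ) : ℂ) →
      (χ : E ⧸ N → ℂ) (g' : E ⧸ N) = ((a * r' : ℤ) : ℂ) →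
      ((∑ ξ ∈ U, ((A0 ξ + r * B0 ξ) * (A0 ξ + r' * B0 ξ)) : ℤ) : ℂ) =
        1 + (r : ℂ) * r' + (m : ℂ) * ((1 + (r : ℂ)) * (1 + r')) := by
    intro g g' r r' hg hg' h1 h1' h2 h2'
    have e := hsame (fun ξ => (ξ : E → ℂ) g' * conj ((ξ : E → ℂ) g))
      (fun j hj hjp => hweak g g' hg hg' j hj hjp)
    rw [htrivpart] at e
    push_cast
    refine Eq.trans ?_ (e.trans ?_)
    · refine Finset.sum_congr rfl fun ξ hξ => ?_
      simp only [h1' ξ (hUT ξ hξ), hconj (h1 ξ (hUT ξ hξ))]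
      push_cast
      ring
    · have hY' : ∀ η ∈ Y,
          (η : E ⧸ N → ℂ) (g' : E ⧸ N) * conj ((η : E ⧸ N → ℂ) (g : E ⧸ N)) =
            (1 + (r : ℂ)) * (1 + r') := by
        intro η hη
        have f : ∀ (g : E) (r : ℤ), ¬ p ∣ orderOf g →
            (χ : E ⧸ N → ℂ) (g : E ⧸ N) = ((a * r : ℤ) : ℂ) →
            (η : E ⧸ N → ℂ) (g : E ⧸ N) = ((δ * (1 + r) : ℤ) : ℂ) := by
          intro g r hg h2
          have h3 := hrel η hη _ (BlockChar.isPRegular_mk N hg)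
          rw [h2] at h3
          push_cast at h3 ⊢
          linear_combination (δ : ℂ) * h3 - (η : E ⧸ N → ℂ) (g : E ⧸ N) * hδc +
            (δ : ℂ) * r * hac
        rw [f g' r' hg' h2', hconj (f g r hg h2)]
        push_cast
        linear_combination (1 + (r : ℂ)) * (1 + r') * hδc
      simp only [hinfl]
      rw [Finset.sum_congr rfl hY', h2', hconj h2, Finset.sum_const, nsmul_eq_mul, ← hm]
      simp only [Blocks.triv, map_one]
      push_cast
      linear_combination (r : ℂ) * r' * hac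
  have e11 := hquad 1 1 d d hreg1 hreg1 hv1 hv1 hχ1 hχ1
  have e12 := hquad 1 t d v hreg1 (hregt t ht2) hv1 hvt hχ1 hχt'
  have e22 := hquad t t v v (hregt t ht2) (hregt t ht2) hvt hvt hχt' hχt'
  -- the cubic sum
  have e3 : ∑ ξ ∈ U, ((A0 ξ + v * B0 ξ : ℤ) : ℂ) ^ 2 * (A0 ξ : ℂ) / ((A0 ξ + d * B0 ξ : ℤ) : ℂ) =
      1 + (m : ℂ) * (w : ℂ) ^ 2 / (y : ℂ) := by
    have e := hsame (fun ξ => (ξ : E → ℂ) t ^ 2 / (ξ : E → ℂ) 1 * J ξ) hcubic
    rw [htrivpart] at e
    have hJi : ∀ θ, J (BlockChar.inflIrr N θ) = q0 * (c θ : ℂ) := fun θ => hJq θ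
    simp only [hJi, hinfl] at e
    refine mul_left_cancel₀ hq00 ?_
    rw [Finset.mul_sum]
    refine Eq.trans ?_ (e.trans ?_)
    · refine Finset.sum_congr rfl fun ξ hξ => ?_
      simp only [hvt ξ (hUT ξ hξ), hv1 ξ (hUT ξ hξ), (hAB ξ (hUT ξ hξ)).2]
      ring
    · have hy0c : (y : ℂ) ≠ 0 := Int.cast_ne_zero.2 hy0
      have hδ0 : (δ : ℂ) ≠ 0 := fun h => by rw [h, mul_zero] at hδc; exact zero_ne_one hδc
      rw [Finset.sum_congr rfl (g := fun _ => q0 * ((w : ℂ) ^ 2 / (y : ℂ))) fun η hη => by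
        rw [hη1 η hη, hηt η hη]
        simp only [hc, if_pos hη, if_neg (fun e : η = Blocks.triv (E ⧸ N) => htY (e ▸ hη))]
        push_cast
        field_simp
        linear_combination ((w : ℂ) ^ 2) * hδc]
      simp only [hc, if_pos, if_neg htY, if_neg hχt, if_neg hχY, Finset.sum_const,
        nsmul_eq_mul, ← hm]
      simp [Blocks.triv]
      ring
  -- conclusion
  have hdiv : ∀ ξ ∈ U, (p : ℤ) ∣ A0 ξ + B0 ξ := by
    intro ξ hξ
    have hξ0 : cval z ξ ≠ 1 := by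
      intro h9
      have h8 : ω₀ = 1 := (Finset.mem_filter.1 hξ).2.symm.trans h9
      exact hprim.ne_one hp.out.one_lt h8
    obtain ⟨k, hk⟩ := prime_dvd_degree hzc hp.out hzp hzd ξ hξ0
    have h7 : (A0 ξ + d * B0 ξ : ℤ) = (Cfsg.charDegree (ξ : E → ℂ) : ℤ) := by
      have := hv1 ξ (hUT ξ hξ)
      rw [hdegc ξ] at this
      exact_mod_cast this.symm
    obtain ⟨r, hr⟩ := hcong
    refine ⟨(k : ℤ) - r * B0 ξ, ?_⟩
    rw [hk] at h7
    push_cast at h7
    linear_combination h7 - B0 ξ * hr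
  have hf0 : ∀ ξ ∈ U, A0 ξ + d * B0 ξ ≠ 0 := by
    intro ξ hξ h0
    have := hv1 ξ (hUT ξ hξ)
    rw [h0, Int.cast_zero] at this
    exact Char.IsIrr.one_ne_zero ξ.2 this
  have hmain := rows_rigid U A0 B0 (fun ξ => A0 ξ + d * B0 ξ) (fun ξ => A0 ξ + v * B0 ξ)
    hp.out.two_le (d := d) (v := v) (y := y) (w := w) (m := (m : ℚ)) hy hw hy0
    (fun _ _ => rfl) (fun _ _ => rfl) hf0 hdiv ?_ ?_ ?_ ?_
  · exact hmain.elim hd1 hvd
  all_goals apply Rat.cast_injective (α := ℂ)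
  all_goals push_cast
  · rw [hy]; push_cast at e11 ⊢; simp only [sq]; linear_combination e11
  · rw [hy, hw]; push_cast at e12 ⊢; linear_combination e12
  · rw [hw]; push_cast at e22 ⊢; simp only [sq]; linear_combination e22
  · push_cast at e3 ⊢; linear_combination e3

end Cfsg.Agent.InvertedSylow
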