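import Mathlib
import Cfsg.Agent.InvertedSylow.Extension
import Cfsg.Agent.InvertedSylow.Rigid
import Cfsg.Agent.Fusion.Transfer
import Cfsg.Agent.Fusion.Residual
import Cfsg.Agent.OddLocal.PLengthData

/-!
# Noncyclic abelian Sylow subgroups with inertial index two (Smith–Tyrer)
-/

set_option autoImplicit false
set_option linter.unusedSectionVars false

open Cfsg Subgroup
open scoped Pointwise

namespace Cfsg.Agent.InvertedSylow

universe u

variable {p : ℕ} [hp : Fact p.Prime]

/-- A normal subgroup containing all involutions or with abelian quotient. -/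
theorem exists_proper_normal {G : Type u} [Group G] [Finite G] (hp2 : p ≠ 2) {P : Sylow p G}
    (h : Inverted P) :
    ∃ M : Subgroup G, M.Normal ∧ M ≠ ⊤ ∧
      (commutator G ≤ M ∨ ∀ t : G, orderOf t = 2 → t ∈ M) := by
  obtain ⟨E, iE, iEf, π, z, hπ, hzo, hzc, hker, hzd⟩ := exists_extension P h.comm h.nc h.act
  have := Fintype.ofFinite E
  let φ : E ⧸ π.ker ≃* G := QuotientGroup.quotientKerEquivOfSurjective π hπ
  obtain ⟨P', hP'⟩ := h.exists_map φ
  obtain ⟨χ, hχt, hχ⟩ := exists_char hp2 π.ker hker hzc hzo hzd hP'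
  have hc := Char.IsIrr.isCharacter χ.2
  refine ⟨(Char.kerSubgroup hc).map φ.toMonoidHom,
    Subgroup.Normal.map inferInstance _ φ.surjective, ?_, ?_⟩
  · intro htop
    have hk : Char.kerSubgroup hc = ⊤ := by
      refine eq_top_iff.2 fun x _ => ?_
      obtain ⟨y, hy, hy'⟩ := (htop ▸ mem_top (φ x) :
        φ x ∈ (Char.kerSubgroup hc).map φ.toMonoidHom)
      exact φ.injective hy' ▸ hy
    refine hχt ?_
    by_contra hne
    have := Fintype.ofFinite (E ⧸ π.ker)
    have h9 := Char.classInner_irr_ne χ.2 (Char.isIrrCharacter_one (G := E ⧸ π.ker))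
      fun e => hne (Subtype.ext e)
    simp only [Cfsg.classInner, fun g => (Char.mem_kerSubgroup hc).1 (hk ▸ mem_top g),
      map_one, mul_one, Finset.sum_const, Finset.card_univ, nsmul_eq_mul,
      ← Nat.card_eq_fintype_card, ← mul_assoc] at h9
    rw [inv_mul_cancel₀ Char.card_ne_zero, one_mul] at h9
    exact Char.IsIrr.one_ne_zero χ.2 h9
  · rcases hχ with hd | hinv
    · refine Or.inl ?_
      have hle : commutator (E ⧸ π.ker) ≤ Char.kerSubgroup hc := by
        intro g hg
        obtain ⟨n, ρ, hρ, hn⟩ := χ.2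
        have hn1 : n = 1 := by
          have h1 : Cfsg.charDegree (χ : E ⧸ π.ker → ℂ) = n :=
            Blocks.charDegree_eq (n := n) (by
              rw [← hn, Representation.char_one, Module.finrank_fin_fun])
          exact h1.symm.trans hd
        subst hn1
        have hdet := Char.hom_commutator_eq_one ((LinearMap.det.comp ρ).toHomUnits) hg
        have h2 : LinearMap.det (ρ g) = 1 := congrArg Units.val hdet
        rw [Char.mem_kerSubgroup, ← hn]
        have hs : ∀ f : Module.End ℂ (Fin 1 → ℂ), LinearMap.trace ℂ _ f = LinearMap.det f := by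
          intro f
          rw [LinearMap.trace_eq_matrix_trace ℂ (Pi.basisFun ℂ (Fin 1)),
            ← LinearMap.det_toMatrix (Pi.basisFun ℂ (Fin 1)), Matrix.det_fin_one,
            Matrix.trace_fin_one]
        show LinearMap.trace ℂ _ (ρ g) = LinearMap.trace ℂ _ (ρ 1)
        rw [hs, hs, h2, map_one, map_one]
      refine le_trans (le_of_eq ?_) (Subgroup.map_mono (f := φ.toMonoidHom) hle)
      rw [_root_.commutator_def, _root_.commutator_def, Subgroup.map_commutator,
        Subgroup.map_top_of_surjective φ.toMonoidHom φ.surjective]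
    · refine Or.inr fun t ht => ⟨φ.symm t, ?_, φ.apply_symm_apply t⟩
      exact (Char.mem_kerSubgroup hc).2 (hinv _ (by rw [MulEquiv.orderOf_eq, ht]))

/-- An element of even order exists. -/
theorem exists_involution {G : Type u} [Group G] [Finite G] (hp2 : p ≠ 2) {P : Sylow p G}
    (h : Inverted P) : ∃ t : G, orderOf t = 2 := by
  refine exists_prime_orderOf_dvd_card' 2 (dvd_trans ?_ (Subgroup.card_subgroup_dvd_card
    (normalizer (P : Set G))))
  have h2 := (h.setup hp2).rel
  rw [← Subgroup.card_mul_index ((centralizer (P : Set G)).subgroupOf (normalizer (P : Set G)))]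
  exact dvd_mul_of_dvd_right (h2 ▸ dvd_rfl) _

/-- Fusion in `P` is by the normalizer, so a normal subgroup not containing `P` is centralized. -/
theorem normalizer_le_centralizer_of_not_le {G : Type u} [Group G] [Finite G] (hp2 : p ≠ 2)
    {P : Sylow p G} (h : Inverted P) (M : Subgroup G) [M.Normal]
    (hPM : ¬ (P : Subgroup G) ≤ M) (Q : Sylow p M)
    (hQ : (Q : Subgroup M).map M.subtype ≤ (P : Subgroup G)) :
    normalizer (Q : Set M) ≤ centralizer (Q : Set M) := by
  have := Fintype.ofFinite G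
  intro m hm
  refine mem_centralizer_iff.2 fun q hq => ?_
  by_cases hq1 : q = 1
  · simp [hq1]
  have hyP : (q : G) ∈ (P : Subgroup G) := hQ ⟨q, hq, rfl⟩
  have hy1 : (q : G) ≠ 1 := fun e => hq1 (Subtype.ext e)
  have hmq : (m : G) * (q : G) * (m : G)⁻¹ ∈ (P : Subgroup G) :=
    hQ ⟨m * q * m⁻¹, (mem_normalizer_iff.1 hm q).1 hq, rfl⟩
  obtain ⟨n, hn, hn'⟩ :=
    Fusion.exists_mem_normalizer_conj_of_isMulCommutative P h.comm hyP (m : G) hmq
  rcases h.act n hn with hfix | hinv
  · refine Subtype.ext ?_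
    show (q : G) * m = m * q
    rw [hfix _ hyP] at hn'
    exact (eq_mul_inv_iff_mul_eq.1 hn')
  · exfalso
    refine hPM fun x hx => ?_
    -- `c` centralizes `q`
    set y : G := (q : G) with hy
    set c : G := n⁻¹ * m with hcdef
    have hc : c ∈ centralizer ({y} : Set G) := by
      rw [mem_centralizer_singleton_iff, hcdef]
      calc n⁻¹ * m * y = n⁻¹ * (m * y * (m : G)⁻¹) * m := by group
        _ = y * (n⁻¹ * m) := by rw [← hn']; group
    have hS := h.setup hp2
    obtain ⟨hKcard, hKmem⟩ := hS.core_centralizer hyP hy1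
    set C := centralizer ({y} : Set G) with hC
    set K := Cfsg.pPrimeCore p (C : Subgroup G) with hK
    have hPC : (P : Subgroup G) ≤ C := fun v hv =>
      mem_centralizer_singleton_iff.2 (hS.mul_comm' hv hyP)
    have hsup : K ⊔ (P : Subgroup G).subgroupOf C = ⊤ := by
      refine Subgroup.eq_top_of_card_eq _
        (le_antisymm (Nat.card_le_card_of_injective _ Subtype.val_injective) ?_)
      rw [← hKcard, ← Nat.card_congr (subgroupOfEquivOfLe hPC).toEquiv]
      refine Nat.le_of_dvd Nat.card_pos (Nat.Coprime.mul_dvd_of_dvd_of_dvd ?_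
        (card_dvd_of_le le_sup_left) (card_dvd_of_le le_sup_right))
      obtain ⟨k, hk⟩ := IsPGroup.iff_card.1 P.isPGroup'
      rw [Nat.card_congr (subgroupOfEquivOfLe hPC).toEquiv, hk]
      exact Nat.Coprime.pow_right k Core.coprime_card_pPrimeCore
    have hcsup : (⟨c, hc⟩ : C) ∈ K ⊔ (P : Subgroup G).subgroupOf C := hsup ▸ mem_top _
    obtain ⟨k, hk, x₁, hx₁, hkx⟩ := mem_sup_of_normal_left.1 hcsup
    set f := QuotientGroup.mk' M with hf
    have hm1 : f (m : G) = 1 := (QuotientGroup.eq_one_iff _).2 m.2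
    have hcx : c = (k : G) * (x₁ : G) := (congrArg Subtype.val hkx).symm
    -- compare modulo `M`
    have hrel : f n * f (k : G) * f (x₁ : G) = 1 := by
      rw [mul_assoc, ← map_mul f (k : G), ← hcx, ← map_mul, hcdef, mul_inv_cancel_left, hm1]
    have hx2 : x * (x₁ : G) = (x₁ : G) * x := hS.mul_comm' hx hx₁
    -- the commutator of `x` with the regular part
    set k₂ : G := x * (k : G) * x⁻¹ * (k : G)⁻¹ with hk₂
    have hxC : x ∈ C := hPC hx
    have hk₂K : (⟨x, hxC⟩ : C) * k * (⟨x, hxC⟩ : C)⁻¹ * k⁻¹ ∈ K :=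
      K.mul_mem ((inferInstance : K.Normal).conj_mem k hk _) (K.inv_mem hk)
    have key : f (x ^ 2) = (f n * f k₂ * (f n)⁻¹)⁻¹ := by
      have h1 : f n * f x * (f n)⁻¹ = (f x)⁻¹ := by
        rw [← map_inv, ← map_mul, ← map_mul, hinv x hx, map_inv]
      have h2 : f x * f (x₁ : G) = f (x₁ : G) * f x := by rw [← map_mul, hx2, map_mul]
      have h3 : f (x₁ : G) = (f n * f (k : G))⁻¹ := eq_inv_of_mul_eq_one_right hrel
      rw [h3] at h2
      have h4 : f n * f (k : G) * f x = f x * (f n * f (k : G)) := by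
        have h5 := congrArg (fun u => f n * f (k : G) * u * (f n * f (k : G))) h2
        simp only [mul_assoc, inv_mul_cancel, mul_one] at h5
        simp only [← mul_assoc, mul_inv_cancel, one_mul] at h5
        simpa only [mul_assoc] using h5
      simp only [hk₂, map_mul, map_inv, map_pow]
      calc f x ^ 2 = f x * (f x) := sq _
        _ = f x * ((f n * f x * (f n)⁻¹)⁻¹) := by rw [h1, inv_inv]
        _ = (f n * f x * (f n)⁻¹ * (f x)⁻¹)⁻¹ := by group
        _ = (f n * (f x * f (k : G) * (f x)⁻¹ * (f (k : G))⁻¹) * (f n)⁻¹)⁻¹ := by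
            congr 1
            have h6 : f n * (f x * f (k : G) * (f x)⁻¹ * (f (k : G))⁻¹) * (f n)⁻¹ =
                f n * f x * f (k : G) * (f x)⁻¹ * (f n * f (k : G))⁻¹ := by group
            have h7 : (f x)⁻¹ * (f n * f (k : G))⁻¹ = (f n * f (k : G))⁻¹ * (f x)⁻¹ := by
              rw [← mul_inv_rev, h4, mul_inv_rev]
            rw [h6, mul_assoc (f n * f x * f (k : G)) _ _, h7]
            group
    have hreg : ¬ p ∣ orderOf (f (x ^ 2)) := by
      rw [key, orderOf_inv]
      intro hd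
      have h8 : orderOf (f n * f k₂ * (f n)⁻¹) = orderOf (f k₂) :=
        MulEquiv.orderOf_eq (MulAut.conj (f n)) (f k₂)
      rw [h8] at hd
      have h9 := (hKmem _).1 hk₂K
      refine h9 (hd.trans ?_)
      rw [← Subgroup.orderOf_coe]
      exact orderOf_map_dvd f _
    obtain ⟨j, hj⟩ := P.isPGroup' ⟨x, hx⟩
    have hj' : x ^ p ^ j = 1 := congrArg Subtype.val hj
    have hord : orderOf (f (x ^ 2)) ∣ p ^ j :=
      orderOf_dvd_of_pow_eq_one (by rw [← map_pow, ← pow_mul, mul_comm, pow_mul, hj', one_pow,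
        map_one])
    obtain ⟨i, -, hi⟩ := (Nat.dvd_prime_pow hp.out).1 hord
    have hone : f (x ^ 2) = 1 := by
      match i with
      | 0 => rw [pow_zero] at hi; exact orderOf_eq_one_iff.1 hi
      | i + 1 => exact absurd (hi ▸ dvd_pow_self p i.succ_ne_zero) hreg
    have hcop : Nat.Coprime 2 (orderOf x) := Nat.Coprime.coprime_dvd_right
      (orderOf_dvd_of_pow_eq_one hj') (((Nat.coprime_primes Nat.prime_two hp.out).2
        (Ne.symm hp2)).pow_right j)
    obtain ⟨e, he⟩ := exists_pow_eq_self_of_coprime hcop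
    rw [← he]
    exact M.pow_mem ((QuotientGroup.eq_one_iff _).1 hone) e

/-- If `O_{p'}(G) = 1` then the Sylow subgroup is normal. -/
theorem normal_of_inverted (hp2 : p ≠ 2) :
    ∀ (n : ℕ) (G : Type u) [Group G] [Finite G], Nat.card G = n → Cfsg.pPrimeCore p G = ⊥ →
      ∀ P : Sylow p G, Inverted P → (P : Subgroup G).Normal := by
  intro n
  induction n using Nat.strong_induction_on with
  | _ n ih => ?_
  intro G _ _ hn hcore P h
  subst hn
  have : IsMulCommutative (P : Subgroup G) := h.comm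
  obtain ⟨M, hMn, hMtop, hM⟩ := exists_proper_normal hp2 h
  have hMcore : Cfsg.pPrimeCore p M = ⊥ := by
    have h1 := Core.map_pPrimeCore_normal (p := p) M
    rw [hcore, bot_inf_eq] at h1
    exact (map_eq_bot_iff_of_injective _ M.subtype_injective).1 h1
  by_cases hPM : (P : Subgroup G) ≤ M
  · have hlt : Nat.card M < Nat.card G := by
      refine lt_of_le_of_ne (Nat.card_le_card_of_injective _ Subtype.val_injective) fun e => ?_
      exact hMtop (Subgroup.eq_top_of_card_eq _ e)
    set Q : Sylow p M := P.subtype hPM with hQ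
    have hQm : ∀ x : M, x ∈ (Q : Subgroup M) ↔ (x : G) ∈ (P : Subgroup G) := fun x => Iff.rfl
    have hcomm : IsMulCommutative (Q : Subgroup M) := ⟨⟨fun a b => by
      have := Fintype.ofFinite G
      exact Subtype.ext (Subtype.ext ((h.setup hp2).mul_comm' a.2 b.2))⟩⟩
    have hnorm : ∀ m : M, m ∈ normalizer (Q : Set M) → (m : G) ∈ normalizer (P : Set G) := by
      intro m hm
      refine mem_normalizer_iff.2 fun x => ⟨fun hx => ?_, fun hx => ?_⟩
      · exact (mem_normalizer_iff.1 hm ⟨x, hPM hx⟩).1 hx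
      · have hxM : x ∈ M := by
          have := M.mul_mem (M.mul_mem (M.inv_mem m.2) (hPM hx)) m.2
          rwa [show (m : G)⁻¹ * ((m : G) * x * (m : G)⁻¹) * m = x by group] at this
        exact (mem_normalizer_iff.1 hm ⟨x, hxM⟩).2 hx
    have hnormal : (Q : Subgroup M).Normal := by
      by_cases hex : ∃ m ∈ normalizer (Q : Set M), ∀ x ∈ (Q : Subgroup M), m * x * m⁻¹ = x⁻¹
      · refine ih _ hlt M rfl hMcore Q ⟨hcomm, fun hc => h.nc ?_, fun m hm => ?_, hex⟩
        · exact (MulEquiv.isCyclic (subgroupOfEquivOfLe hPM)).1 hc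
        · rcases h.act _ (hnorm m hm) with h' | h'
          · exact Or.inl fun x hx => Subtype.ext (h' x hx)
          · exact Or.inr fun x hx => Subtype.ext (h' x hx)
      · have hle : normalizer (Q : Set M) ≤ centralizer (Q : Set M) := by
          intro m hm
          rcases h.act _ (hnorm m hm) with h' | h'
          · exact (mem_centralizer_iff_fix (P := Q)).2 fun x hx => Subtype.ext (h' x hx)
          · exact absurd ⟨m, hm, fun x hx => Subtype.ext (h' x hx)⟩ hex
        obtain ⟨A, hA, hAc, k, hk⟩ := Fusion.hasNormalPComplement_iff_exists.1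
          (Fusion.hasNormalPComplement_of_normalizer_le_centralizer Q hle)
        have hA1 : A = ⊥ := le_bot_iff.1 (hMcore ▸ Core.le_pPrimeCore hAc)
        rw [hA1, index_bot] at hk
        rw [← Q.3 ((IsPGroup.of_card hk).to_subgroup ⊤) le_top]
        infer_instance
    refine ⟨fun x hx g => ?_⟩
    have := Sylow.unique_of_normal Q hnormal
    have hgx : g * x * g⁻¹ ∈ M := hMn.conj_mem x (hPM hx) g
    have hQ' : ((g • P : Sylow p G) : Subgroup G) ≤ M := by
      rw [Sylow.coe_subgroup_smul]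
      rintro _ ⟨w, hw, rfl⟩
      exact hMn.conj_mem w (hPM hw) g
    have he : (g • P).subtype hQ' = Q := Subsingleton.elim _ _
    have hmem : (⟨g * x * g⁻¹, hgx⟩ : M) ∈ ((g • P).subtype hQ' : Subgroup M) := by
      show g * x * g⁻¹ ∈ ((g • P : Sylow p G) : Subgroup G)
      rw [Sylow.coe_subgroup_smul]
      exact ⟨x, hx, rfl⟩
    rw [he] at hmem
    exact hmem
  · obtain ⟨Q, hQ⟩ : ∃ Q : Sylow p M, (Q : Subgroup M).map M.subtype ≤ (P : Subgroup G) := by
      obtain ⟨Q₀⟩ : Nonempty (Sylow p M) := inferInstance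
      obtain ⟨T, hT⟩ := (Q₀.isPGroup'.map M.subtype).exists_le_sylow
      obtain ⟨c, hc⟩ := MulAction.exists_smul_eq G T P
      refine ⟨(MulAut.conjNormal c : MulAut M) • Q₀, ?_⟩
      rintro _ ⟨w, hw, rfl⟩
      obtain ⟨v, hv, rfl⟩ : ∃ v ∈ (Q₀ : Subgroup M), (MulAut.conjNormal c : MulAut M) v = w := hw
      rw [← hc, Sylow.coe_subgroup_smul]
      exact ⟨(v : G), hT ⟨v, hv, rfl⟩, by simp⟩
    have hle := normalizer_le_centralizer_of_not_le hp2 h M hPM Q hQ
    obtain ⟨A, hA, hAc, k, hk⟩ := Fusion.hasNormalPComplement_iff_exists.1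
      (Fusion.hasNormalPComplement_of_normalizer_le_centralizer Q hle)
    have hA1 : A = ⊥ := le_bot_iff.1 (hMcore ▸ Core.le_pPrimeCore hAc)
    rw [hA1, index_bot] at hk
    have hMp : IsPGroup p M := IsPGroup.of_card hk
    rcases hM with hM | hM
    · have hMP : M ≤ (P : Subgroup G) := by
        obtain ⟨T, hT⟩ := hMp.exists_le_sylow
        obtain ⟨c, hc⟩ := MulAction.exists_smul_eq G T P
        intro x hx
        have h1 : c⁻¹ * x * c ∈ (T : Subgroup G) := hT (by
          simpa using hMn.conj_mem x hx c⁻¹)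
        rw [← hc, Sylow.coe_subgroup_smul]
        exact ⟨_, h1, by simp [mul_assoc]⟩
      refine ⟨fun x hx g => ?_⟩
      have h1 : g * x * g⁻¹ * x⁻¹ ∈ (P : Subgroup G) := hMP (hM (by
        rw [_root_.commutator_def, ← commutatorElement_def]
        exact commutator_mem_commutator (mem_top g) (mem_top x)))
      simpa using P.mul_mem h1 hx
    · exfalso
      obtain ⟨t, ht⟩ := exists_involution hp2 h
      obtain ⟨j, hj⟩ := hMp ⟨t, hM t ht⟩
      have hj' : t ^ p ^ j = 1 := congrArg Subtype.val hj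
      have h2 : 2 ∣ p ^ j := ht ▸ orderOf_dvd_of_pow_eq_one hj'
      exact hp2 ((Nat.prime_dvd_prime_iff_eq Nat.prime_two hp.out).1
        (Nat.prime_two.dvd_of_dvd_pow h2)).symm

/-- The hypothesis passes to the quotient by the p'-core. -/
theorem inverted_quotient {G : Type u} [Group G] [Finite G] (hp2 : p ≠ 2) {P : Sylow p G}
    (h : Inverted P) : ∃ P' : Sylow p (G ⧸ Cfsg.pPrimeCore p G), Inverted P' := by
  set K := Cfsg.pPrimeCore p G
  set f := QuotientGroup.mk' K with hf
  have hfs : Function.Surjective f := QuotientGroup.mk'_surjective K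
  set P' := P.mapSurjective hfs with hP'
  have hmem : ∀ q, q ∈ (P' : Subgroup (G ⧸ K)) ↔ ∃ x ∈ (P : Subgroup G), f x = q := fun q => by
    rw [hP', Sylow.coe_mapSurjective, Subgroup.mem_map]
  have hKd : ¬ p ∣ Nat.card K := Core.not_dvd_card_pPrimeCore
  have hinj : ∀ x ∈ (P : Subgroup G), f x = 1 → x = 1 := by
    intro x hx hfx
    obtain ⟨k, hk⟩ := P.isPGroup' ⟨x, hx⟩
    have hk' : x ^ p ^ k = 1 := congrArg Subtype.val hk
    obtain ⟨i, -, hi⟩ := (Nat.dvd_prime_pow hp.out).1 (orderOf_dvd_of_pow_eq_one hk')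
    match i with
    | 0 => rw [pow_zero] at hi; exact orderOf_eq_one_iff.1 hi
    | i + 1 => exact absurd ((hi ▸ dvd_pow_self p i.succ_ne_zero : p ∣ orderOf x).trans
        (Subgroup.orderOf_dvd_natCard K ((QuotientGroup.eq_one_iff _).1 hfx))) hKd
  refine ⟨P', ⟨⟨fun a b => Subtype.ext ?_⟩⟩, fun hc => h.nc ?_, fun n hn => ?_, ?_⟩
  · obtain ⟨x, hx, hxa⟩ := (hmem _).1 a.2
    obtain ⟨y, hy, hyb⟩ := (hmem _).1 b.2
    rw [Subgroup.coe_mul, Subgroup.coe_mul, ← hxa, ← hyb, ← map_mul, ← map_mul,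
      (h.setup hp2).mul_comm' hx hy]
  · let g : (P : Subgroup G) →* (P' : Subgroup (G ⧸ K)) :=
      (f.comp (P : Subgroup G).subtype).codRestrict _ fun x => (hmem _).2 ⟨x, x.2, rfl⟩
    have hgi : Function.Injective g := (injective_iff_map_eq_one g).2 fun x hx =>
      Subtype.ext (hinj x x.2 (congrArg Subtype.val hx))
    exact isCyclic_of_injective g hgi
  · obtain ⟨g, rfl⟩ := hfs n
    set L := (P' : Subgroup (G ⧸ K)).comap f with hL
    have hPL : (P : Subgroup G) ≤ L := fun x hx => (hmem _).2 ⟨x, hx, rfl⟩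
    have hgL : ((g • P : Sylow p G) : Subgroup G) ≤ L := by
      rw [Sylow.coe_subgroup_smul]
      rintro _ ⟨x, hx, rfl⟩
      show f (g * x * g⁻¹) ∈ (P' : Subgroup (G ⧸ K))
      rw [map_mul, map_mul, map_inv]
      exact (mem_normalizer_iff.1 hn (f x)).1 ((hmem _).2 ⟨x, hx, rfl⟩)
    obtain ⟨l, hl⟩ := MulAction.exists_smul_eq L ((g • P).subtype hgL) (P.subtype hPL)
    have hlg : ∀ x ∈ (P : Subgroup G),
        ((l : G) * g) * x * ((l : G) * g)⁻¹ ∈ (P : Subgroup G) := by
      intro x hx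
      have h1 : g * x * g⁻¹ ∈ ((g • P : Sylow p G) : Subgroup G) := by
        rw [Sylow.coe_subgroup_smul]; exact ⟨x, hx, rfl⟩
      have h2 : l * ⟨g * x * g⁻¹, hgL h1⟩ * l⁻¹ ∈ (P.subtype hPL : Subgroup L) := by
        rw [← hl, Sylow.coe_subgroup_smul]
        exact ⟨_, h1, rfl⟩
      have h3 : (l : G) * (g * x * g⁻¹) * (l : G)⁻¹ ∈ (P : Subgroup G) := h2
      rwa [show ((l : G) * g) * x * ((l : G) * g)⁻¹ = (l : G) * (g * x * g⁻¹) * (l : G)⁻¹ by
        group]
    have hlN : (l : G) * g ∈ normalizer (P : Set G) := by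
      refine mem_normalizer_iff.2 fun x => ⟨hlg x, fun hx => ?_⟩
      let φ : ↥(P : Subgroup G) → ↥(P : Subgroup G) := fun y => ⟨_, hlg y y.2⟩
      have hφ : Function.Injective φ := fun a b hab =>
        Subtype.ext (mul_left_cancel (mul_right_cancel (congrArg Subtype.val hab)))
      obtain ⟨y, hy⟩ := (Finite.injective_iff_surjective.1 hφ) ⟨_, hx⟩
      have : (y : G) = x := by simpa [φ] using congrArg Subtype.val hy
      exact this ▸ y.2
    obtain ⟨x₀, hx₀, hxl⟩ := (hmem _).1 (show f (l : G) ∈ (P' : Subgroup (G ⧸ K)) from l.2)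
    have hact : ∀ x ∈ (P : Subgroup G), f g * f x * (f g)⁻¹ =
        f (((l : G) * g) * x * ((l : G) * g)⁻¹) := by
      intro x hx
      obtain ⟨y, hy, hye⟩ :=
        (hmem _).1 ((mem_normalizer_iff.1 hn (f x)).1 ((hmem _).2 ⟨x, hx, rfl⟩))
      simp only [map_mul, map_inv]
      rw [← hxl, show f x₀ * f g * f x * (f x₀ * f g)⁻¹ =
        f x₀ * (f g * f x * (f g)⁻¹) * (f x₀)⁻¹ by group, ← hye, ← map_mul,
        (h.setup hp2).mul_comm' hx₀ hy, map_mul, mul_inv_cancel_right]
    rcases h.act _ hlN with h' | h'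
    · refine Or.inl fun q hq => ?_
      obtain ⟨x, hx, rfl⟩ := (hmem q).1 hq
      rw [hact x hx, h' x hx]
    · refine Or.inr fun q hq => ?_
      obtain ⟨x, hx, rfl⟩ := (hmem q).1 hq
      rw [hact x hx, h' x hx, map_inv]
  · obtain ⟨n, hn, hn'⟩ := h.ex
    refine ⟨f n, ?_, fun q hq => ?_⟩
    · exact Subgroup.le_normalizer_map f (H := (P : Subgroup G)) ⟨n, hn, rfl⟩
    · obtain ⟨x, hx, rfl⟩ := (hmem q).1 hq
      rw [← map_inv f n, ← map_mul, ← map_mul, hn' x hx, map_inv]

/-- The theorem. -/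
theorem pLengthLE_one {G : Type u} [Group G] [Finite G] (hp2 : p ≠ 2) {P : Sylow p G}
    (h : Inverted P) : Cfsg.PLengthLE p 1 G := by
  obtain ⟨P', hP'⟩ := inverted_quotient hp2 h
  have hn := normal_of_inverted hp2 _ (G ⧸ Cfsg.pPrimeCore p G) rfl
    Core.pPrimeCore_quotient_eq_bot P' hP'
  refine OddLocal.pLengthLE_one_of_index fun hd => P'.not_dvd_index (hd.trans ?_)
  exact index_dvd_of_le (Core.le_pCore P'.isPGroup')

/-- A centralized element of the Sylow subgroup gives a proper `O^p`. -/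
theorem pResidual_ne_top {G : Type u} [Group G] [Finite G] (P : Sylow p G)
    (hc : IsMulCommutative (P : Subgroup G)) {n : G} (hnN : n ∈ normalizer (P : Set G))
    (hn2 : ∀ x ∈ (P : Subgroup G), n * (n * x * n⁻¹) * n⁻¹ = x)
    (hgen : ∀ m ∈ normalizer (P : Set G),
      (∀ x ∈ (P : Subgroup G), m * x * m⁻¹ = x) ∨
        (∀ x ∈ (P : Subgroup G), m * x * m⁻¹ = n * x * n⁻¹))
    {x : G} (hx : x ∈ (P : Subgroup G)) (hni : n * x * n⁻¹ ≠ x⁻¹) :
    Cfsg.pResidual p G ≠ ⊤ := by
  refine Fusion.pResidual_ne_top_of_not_le_commutator P fun hle => ?_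
  have hcomm : ∀ a ∈ (P : Subgroup G), ∀ b ∈ (P : Subgroup G), a * b = b * a := fun a ha b hb =>
    congrArg Subtype.val (hc.is_comm.comm (⟨a, ha⟩ : (P : Subgroup G)) ⟨b, hb⟩)
  have hfoc : (P : Subgroup G) ≤ ⁅(P : Subgroup G), normalizer (P : Set G)⁆ := by
    refine le_trans (le_inf hle le_rfl) ?_
    rw [commutator_inf_eq_focalSubgroup P]
    exact Fusion.focalSubgroup_le_commutator_right_of_controls P _ fun a ha g hg =>
      Fusion.exists_mem_normalizer_conj_of_isMulCommutative P hc ha g hg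
  let W : Subgroup G :=
    { carrier := {a | a ∈ (P : Subgroup G) ∧ n * a * n⁻¹ = a⁻¹}
      one_mem' := ⟨one_mem _, by simp⟩
      mul_mem' := fun {a b} ha hb => ⟨mul_mem ha.1 hb.1, by
        rw [show n * (a * b) * n⁻¹ = (n * a * n⁻¹) * (n * b * n⁻¹) by group, ha.2, hb.2,
          mul_inv_rev]
        exact hcomm _ (inv_mem ha.1) _ (inv_mem hb.1)⟩
      inv_mem' := fun {a} ha => ⟨inv_mem ha.1, by
        rw [show n * a⁻¹ * n⁻¹ = (n * a * n⁻¹)⁻¹ by group, ha.2]⟩ }
  have hW : ⁅(P : Subgroup G), normalizer (P : Set G)⁆ ≤ W := by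
    refine commutator_le.2 fun a ha m hm => ?_
    have hma : a * m * a⁻¹ * m⁻¹ = a * (m * a⁻¹ * m⁻¹) := by group
    rw [commutatorElement_def, hma]
    rcases hgen m hm with h' | h'
    · rw [h' _ (inv_mem ha), mul_inv_cancel]
      exact W.one_mem
    · rw [h' _ (inv_mem ha)]
      have hn1 : n * a⁻¹ * n⁻¹ ∈ (P : Subgroup G) := (mem_normalizer_iff.1 hnN _).1 (inv_mem ha)
      refine ⟨mul_mem ha hn1, ?_⟩
      rw [show n * (a * (n * a⁻¹ * n⁻¹)) * n⁻¹ =
        (n * a * n⁻¹) * (n * (n * a⁻¹ * n⁻¹) * n⁻¹) by group, hn2 _ (inv_mem ha), mul_inv_rev,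
        show (n * a⁻¹ * n⁻¹)⁻¹ = n * a * n⁻¹ by group]
  exact hni (hW (hfoc hx)).2

end Cfsg.Agent.InvertedSylow
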